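import Cfsg.Agent.H682.TE6.Core
import Cfsg.Agent.H290.Wei.CoreW

/-!
# `²E₆(3)`: the normal `2`-subgroups of the overgroups of the torus of class 12 (helper682, S3938)

* `commute_w'` : helper290's `commute_w`, the numerical condition only for the order of `R`;
* `card_normal`, `pow_four`, `no_sixteen` : a normal `2`-subgroup of order `2 ^ 18` on which an element of order `73`
  has no fixed points has exponent `4`, so it is not a subgroup of `²E₆(3)`;
* `commute_w_three`.
-/

set_option autoImplicit false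
set_option linter.unusedSectionVars false

namespace Cfsg.Agent.H682.TE6

open Subgroup Cfsg Cfsg.Agent.OrdDiv Cfsg.Agent.H436 Cfsg.Agent.H56.Exc Cfsg.Agent.H563.KG Cfsg.Agent.H190.Odd
  Cfsg.Agent.H190.Cov Cfsg.Agent.H290.Wei

universe u

section numerics

variable {K : Type u} [Group K] [Finite K]

/-- **`w` centralises a normal `t`-subgroup on which `y`, of prime order, acts without fixed points.** -/
theorem commute_w' {F : Type*} [Field F] {ι : Type*} [Fintype ι] [DecidableEq ι] {p : ℕ} [CharP F p]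
    {τ : K →* Matrix.GeneralLinearGroup ι F} (hτ : Function.Injective τ) (hpp : p.Prime) {y w : K} {n w₀ : ℕ}
    (hn : n.Prime) (hy : orderOf y = n) (hw₀ : w₀.Prime) (hw : orderOf w = w₀) (hyw : Commute y w) (hne : n ≠ w₀)
    {t : ℕ} (ht : t.Prime) (htp : t ≠ p) (htn : t ≠ n) (htw : t ≠ w₀) {R : Subgroup K} [hRn : R.Normal]
    (hRt : IsPGroup t R) (hfix : ∀ a ∈ R, Commute a y → a = 1) (hN : Fintype.card ι < n * w₀)
    (hnum : ∀ k j : ℕ, Nat.card R = t ^ k → j ≤ k → t ^ k ≡ 1 [MOD n] → t ^ j ≡ 1 [MOD n] →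
      t ^ k ≡ t ^ j [MOD w₀] → j = k ∨ j = 0) : ∀ u ∈ R, Commute u w := by
  have := Fact.mk ht
  have := Fact.mk hn
  have := Fact.mk hw₀
  obtain ⟨k, hk⟩ := IsPGroup.iff_card.1 hRt
  set C := R ⊓ centralizer ({w} : Set K) with hC
  have hCR : C ≤ R := inf_le_left
  obtain ⟨j, hj⟩ := IsPGroup.iff_card.1 (hRt.to_le hCR)
  have hyn : y ^ n = 1 := by rw [← hy, pow_orderOf_eq_one]
  have hwn : w ^ w₀ = 1 := by rw [← hw, pow_orderOf_eq_one]
  have h1 := card_mod hn hyn (A := R) fun a ha => hRn.conj_mem a ha y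
  have h2 : (R ⊓ centralizer ({y} : Set K) : Subgroup K) = ⊥ := by
    rw [eq_bot_iff]
    intro a ha
    exact hfix a ha.1 (mem_centralizer_singleton_iff.1 ha.2)
  rw [h2, Subgroup.card_bot, hk] at h1
  have h3 := card_mod hn hyn (A := C) fun a ha => ⟨hRn.conj_mem a ha.1 y, by
    refine mem_centralizer_singleton_iff.2 ?_
    have h4 : Commute a w := mem_centralizer_singleton_iff.1 ha.2
    exact ((hyw.mul_left h4).mul_left hyw.inv_left).eq⟩
  have h4 : (C ⊓ centralizer ({y} : Set K) : Subgroup K) = ⊥ := by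
    rw [eq_bot_iff]
    intro a ha
    exact hfix a ha.1.1 (mem_centralizer_singleton_iff.1 ha.2)
  rw [h4, Subgroup.card_bot, hj] at h3
  have h5 := card_mod hw₀ hwn (A := R) fun a ha => hRn.conj_mem a ha w
  rw [← hC, hk, hj] at h5
  have hjk : j ≤ k := by
    have h6 := Subgroup.card_le_of_le hCR
    rw [hk, hj] at h6
    exact (Nat.pow_le_pow_iff_right ht.one_lt).1 h6
  rcases hnum k j hk hjk h1 h3 h5 with h6 | h6
  · have h7 : C = R := Subgroup.eq_of_le_of_card_ge hCR (by rw [hk, hj, h6])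
    intro u hu
    have h8 : u ∈ C := by rw [h7]; exact hu
    exact mem_centralizer_singleton_iff.1 h8.2
  · -- `w` has no fixed points
    have hCb : C = ⊥ := by
      rw [← Subgroup.card_eq_one, hj, h6, pow_zero]
    suffices hb : R = ⊥ by
      intro u hu
      rw [hb, Subgroup.mem_bot] at hu
      rw [hu]
      exact Commute.one_left w
    by_contra hne'
    have hnt : Nontrivial R := (Subgroup.nontrivial_iff_ne_bot R).2 hne'
    have hc := hRt.center_nontrivial
    have hchar : (center R).Characteristic := inferInstance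
    have hCn : ((center R).map R.subtype).Normal := inferInstance
    have hCt : IsPGroup t ((center R).map R.subtype) := (hRt.to_subgroup _).map _
    have hord : orderOf (y * w) = n * w₀ := by
      rw [hyw.orderOf_mul_eq_mul_orderOf_of_coprime, hy, hw]
      rw [hy, hw]
      exact (Nat.coprime_primes hn hw₀).2 hne
    have hle : (center R).map R.subtype ≤ R := by
      rintro _ ⟨a, -, rfl⟩
      exact a.2
    have hgen : ∀ {v x : K} {l : ℕ}, l.Prime → orderOf x = l → v ^ l = 1 → x ∈ zpowers v → v ∈ zpowers x := by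
      intro v x l hl hx hv hxv
      have := Fact.mk hl
      have hv1 : v ≠ 1 := by
        rintro rfl
        rw [zpowers_one_eq_bot, Subgroup.mem_bot] at hxv
        rw [hxv, orderOf_one] at hx
        exact hl.one_lt.ne hx
      have hvl : orderOf v = l := orderOf_eq_prime_iff.2 ⟨hv, hv1⟩
      have h7 : zpowers x = zpowers v := by
        refine Subgroup.eq_of_le_of_card_ge ((zpowers_le).2 hxv) ?_
        rw [Nat.card_zpowers, Nat.card_zpowers, hx, hvl]
      rw [h7]
      exact mem_zpowers v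
    have hb := eq_bot_of_fpf hτ hpp hord ht htp hCt (by
      rintro _ ⟨a, ha, rfl⟩ _ ⟨b, -, rfl⟩
      exact (congrArg Subtype.val (mem_center_iff.1 ha b)).symm) (fun h => by
        rcases ht.dvd_mul.1 h with h | h
        · exact htn ((Nat.prime_dvd_prime_iff_eq ht hn).1 h)
        · exact htw ((Nat.prime_dvd_prime_iff_eq ht hw₀).1 h)) ?_ hN
    · obtain ⟨z, hz⟩ := exists_ne (1 : center R)
      have h7 : ((z : R) : K) ∈ (center R).map R.subtype := ⟨z, z.2, rfl⟩
      rw [hb, Subgroup.mem_bot] at h7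
      exact hz (Subtype.ext (Subtype.ext h7))
    · intro x hx hxp a ha hax
      have haR : a ∈ R := hle ha
      have hxd : orderOf x ∣ n * w₀ := by
        rw [← hord]
        exact orderOf_dvd_of_mem_zpowers hx
      obtain ⟨i, rfl⟩ := (mem_powers_iff_mem_zpowers).2 hx
      have hmul : (y * w) ^ i = y ^ i * w ^ i := hyw.mul_pow i
      simp only at hax hxp hxd
      rcases (Nat.Prime.dvd_mul hxp).1 hxd with h | h
      · have h7 : orderOf ((y * w) ^ i) = n := (Nat.prime_dvd_prime_iff_eq hxp hn).1 h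
        -- the `w`-part is trivial
        have h8 : (w ^ i) ^ n = 1 := by
          have h9 : ((y * w) ^ i) ^ n = 1 := by rw [← h7, pow_orderOf_eq_one]
          rw [hmul, (hyw.pow_pow i i).mul_pow, ← pow_mul y, mul_comm i n, pow_mul, hyn, one_pow, one_mul] at h9
          exact h9
        have h10 : w ^ i = 1 := by
          have h11 : orderOf (w ^ i) ∣ w₀ := hw ▸ orderOf_pow_dvd i
          have h12 := orderOf_dvd_of_pow_eq_one h8
          have h13 := Nat.dvd_gcd h12 h11
          rw [(Nat.coprime_primes hn hw₀).2 hne, Nat.dvd_one] at h13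
          exact orderOf_eq_one_iff.1 h13
        rw [h10, mul_one] at hmul
        rw [hmul] at h7 hax
        have h14 := hgen hn h7 hyn ⟨i, zpow_natCast y i⟩
        obtain ⟨c, hc⟩ := h14
        have hc' : (y ^ i) ^ c = y := hc
        refine hfix a haR ?_
        rw [← hc']
        exact hax.zpow_right c
      · have h7 : orderOf ((y * w) ^ i) = w₀ := (Nat.prime_dvd_prime_iff_eq hxp hw₀).1 h
        have h8 : (y ^ i) ^ w₀ = 1 := by
          have h9 : ((y * w) ^ i) ^ w₀ = 1 := by rw [← h7, pow_orderOf_eq_one]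
          rw [hmul, (hyw.pow_pow i i).mul_pow, ← pow_mul w, mul_comm i w₀, pow_mul w, hwn, one_pow, mul_one] at h9
          exact h9
        have h10 : y ^ i = 1 := by
          have h11 : orderOf (y ^ i) ∣ n := hy ▸ orderOf_pow_dvd i
          have h12 := orderOf_dvd_of_pow_eq_one h8
          have h13 := Nat.dvd_gcd h11 h12
          rw [(Nat.coprime_primes hn hw₀).2 hne, Nat.dvd_one] at h13
          exact orderOf_eq_one_iff.1 h13
        rw [h10, one_mul] at hmul
        rw [hmul] at h7 hax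
        have h14 := hgen hw₀ h7 hwn ⟨i, zpow_natCast w i⟩
        obtain ⟨c, hc⟩ := h14
        have hc' : (w ^ i) ^ c = w := hc
        have h15 : a ∈ C := ⟨haR, by
          refine mem_centralizer_singleton_iff.2 ?_
          rw [← hc']
          exact (hax.zpow_right c).eq⟩
        rw [hCb, Subgroup.mem_bot] at h15
        exact h15

theorem eq_two_of {t : ℕ} (ht : t.Prime) {R A : Subgroup K} (hR : IsPGroup 2 R) (hAR : A ≤ R) (hA0 : A ≠ ⊥)
    (hAt : ∀ a ∈ A, a ^ t = 1) : t = 2 := by
  obtain ⟨a, ha, ha1⟩ := (Subgroup.bot_or_exists_ne_one A).resolve_left hA0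
  have := Fact.mk ht
  have h1 : orderOf a = t := orderOf_eq_prime (hAt a ha) ha1
  obtain ⟨k, hk⟩ := hR ⟨a, hAR ha⟩
  have h2 : a ^ 2 ^ k = 1 := congrArg Subtype.val hk
  have h3 := orderOf_dvd_of_pow_eq_one h2
  rw [h1] at h3
  exact (Nat.prime_dvd_prime_iff_eq ht Nat.prime_two).1 (ht.dvd_of_dvd_pow h3)

theorem nine_of {k : ℕ} (hk : k ≤ 19) (h : 2 ^ k ≡ 1 [MOD 73]) : k = 0 ∨ k = 9 ∨ k = 18 := by
  unfold Nat.ModEq at h
  interval_cases k <;> first | (left; rfl) | (right; left; rfl) | (right; right; rfl) | (norm_num at h)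

/-- the orders of the normal `2`-subgroups -/
theorem card_normal {y : K} (hy : orderOf y = 73) {A : Subgroup K} (hAn : A.Normal) (hA : IsPGroup 2 A)
    (hfix : ∀ a ∈ A, Commute a y → a = 1) (h20 : ¬ 2 ^ 20 ∣ Nat.card K) :
    Nat.card A = 2 ^ 0 ∨ Nat.card A = 2 ^ 9 ∨ Nat.card A = 2 ^ 18 := by
  have := Fact.mk Nat.prime_two
  obtain ⟨k, hk⟩ := IsPGroup.iff_card.1 hA
  have h1 := card_mod (K := K) (l := 73) (z := y) (by norm_num) (by rw [← hy, pow_orderOf_eq_one]) (A := A)
    fun a ha => hAn.conj_mem a ha y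
  have h2 : (A ⊓ centralizer ({y} : Set K) : Subgroup K) = ⊥ := by
    rw [eq_bot_iff]
    intro a ha
    exact hfix a ha.1 (mem_centralizer_singleton_iff.1 ha.2)
  rw [h2, Subgroup.card_bot, hk] at h1
  have h3 : k ≤ 19 := by
    by_contra hcon
    apply h20
    refine (pow_dvd_pow 2 (by omega : 20 ≤ k)).trans ?_
    rw [← hk]
    exact Subgroup.card_subgroup_dvd_card A
  rw [hk]
  rcases nine_of h3 h1 with rfl | rfl | rfl
  · exact Or.inl rfl
  · exact Or.inr (Or.inl rfl)
  · exact Or.inr (Or.inr rfl)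

theorem pow_four {y : K} (hy : orderOf y = 73) {R : Subgroup K} (hRn : R.Normal) (hR : IsPGroup 2 R)
    (hfix : ∀ a ∈ R, Commute a y → a = 1) (h20 : ¬ 2 ^ 20 ∣ Nat.card K) (hc : Nat.card R = 2 ^ 18) :
    ∀ u ∈ R, u ^ 4 = 1 := by
  have := Fact.mk Nat.prime_two
  have hne : R ≠ ⊥ := by
    rintro rfl
    rw [Subgroup.card_bot] at hc
    norm_num at hc
  have hsol : ∀ {G : Type u} [Group G] [Finite G] {S : Subgroup G}, IsPGroup 2 S → Group.IsSolvable S := by
    intro G _ _ S hS
    have := hS.isNilpotent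
    infer_instance
  obtain ⟨t, ht, A, hAn, hAR, hA0, -, hAt⟩ := exists_elem' hRn (hsol hR) hne
  obtain rfl := eq_two_of ht hR hAR hA0 hAt
  have hA2 : IsPGroup 2 A := hR.to_le hAR
  rcases card_normal hy hAn hA2 (fun a ha => hfix a (hAR ha)) h20 with h | h | h
  · exact absurd (Subgroup.card_eq_one.1 (by rw [h, pow_zero])) hA0
  · -- the quotient
    set π := QuotientGroup.mk' A with hπ
    have hπs := QuotientGroup.mk'_surjective A
    have hRn' : (R.map π).Normal := hRn.map π hπs
    have hR' : IsPGroup 2 (R.map π) := hR.map π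
    have hne' : R.map π ≠ ⊥ := by
      intro h1
      rw [Subgroup.map_eq_bot_iff, QuotientGroup.ker_mk'] at h1
      have h2 := Subgroup.card_le_of_le h1
      rw [h, hc] at h2
      norm_num at h2
    obtain ⟨t', ht', B', hBn, hBR, hB0, -, hBt⟩ := exists_elem' hRn' (hsol hR') hne'
    obtain rfl := eq_two_of ht' hR' hBR hB0 hBt
    set B := B'.comap π with hB
    have hBn' : B.Normal := hBn.comap π
    have hBR' : B ≤ R := by
      intro a ha
      obtain ⟨v, hv, hva⟩ := hBR (show π a ∈ B' from ha)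
      have h1 : v⁻¹ * a ∈ A := QuotientGroup.eq.1 hva
      have h2 := R.mul_mem hv (hAR h1)
      rwa [mul_inv_cancel_left] at h2
    have hAB : A ≤ B := by
      intro a ha
      have h1 : π a = 1 := (QuotientGroup.eq_one_iff a).2 ha
      show π a ∈ B'
      rw [h1]
      exact B'.one_mem
    have hBA : B ≠ A := by
      intro h1
      apply hB0
      rw [eq_bot_iff]
      intro b hb
      obtain ⟨a, rfl⟩ := hπs b
      have h2 : a ∈ B := hb
      rw [h1] at h2
      rw [Subgroup.mem_bot]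
      exact (QuotientGroup.eq_one_iff a).2 h2
    have hBR2 : B = R := by
      rcases card_normal hy hBn' (hR.to_le hBR') (fun a ha => hfix a (hBR' ha)) h20 with h1 | h1 | h1
      · exfalso
        have h2 := Subgroup.card_le_of_le hAB
        rw [h, h1] at h2
        norm_num at h2
      · exfalso
        exact hBA (Subgroup.eq_of_le_of_card_ge hAB (by rw [h, h1])).symm
      · exact Subgroup.eq_of_le_of_card_ge hBR' (by rw [hc, h1])
    intro u hu
    rw [← hBR2] at hu
    have h1 : π u ^ 2 = 1 := hBt _ hu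
    rw [← map_pow] at h1
    have h2 : u ^ 2 ∈ A := (QuotientGroup.eq_one_iff _).1 h1
    have h3 := hAt _ h2
    rw [← pow_mul] at h3
    exact h3
  · have h1 : A = R := Subgroup.eq_of_le_of_card_ge hAR (by rw [hc, h])
    intro u hu
    rw [← h1] at hu
    have h2 := hAt u hu
    calc u ^ 4 = (u ^ 2) ^ 2 := by rw [← pow_mul]
      _ = 1 := by rw [h2, one_pow]

/-- the exponent of the Sylow `2`-subgroups -/
theorem no_sixteen (h20 : ¬ 2 ^ 20 ∣ Nat.card K) {R : Subgroup K} (hc : Nat.card R = 2 ^ 18) (h4 : ∀ u ∈ R, u ^ 4 = 1)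
    (x : K) : orderOf x ≠ 16 := by
  have := Fact.mk Nat.prime_two
  intro hx
  obtain ⟨P, hP⟩ := (IsPGroup.of_card hc).exists_le_sylow
  have hv : ∀ v ∈ P, v ^ 8 = 1 := by
    obtain ⟨a, ha⟩ := IsPGroup.iff_card.1 P.2
    have ha19 : a ≤ 19 := by
      by_contra hcon
      apply h20
      refine (pow_dvd_pow 2 (by omega : 20 ≤ a)).trans ?_
      rw [← ha]
      exact Subgroup.card_subgroup_dvd_card _
    have h1 := (R.subgroupOf P).card_mul_index
    rw [Nat.card_congr (Subgroup.subgroupOfEquivOfLe hP).toEquiv, hc, ha] at h1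
    have h2 : ∀ v : (P : Subgroup K), v ^ 2 ∈ R.subgroupOf P := by
      have h18 : 18 ≤ a := by
        have h3 := Subgroup.card_le_of_le hP
        rw [hc, ha] at h3
        exact (Nat.pow_le_pow_iff_right (by norm_num)).1 h3
      have h3 : a = 18 ∨ a = 19 := by omega
      rcases h3 with rfl | rfl
      · have h5 : (R.subgroupOf P).index = 1 := Nat.eq_of_mul_eq_mul_left (show 0 < 2 ^ 18 by norm_num) (by rw [h1, mul_one])
        intro v
        rw [Subgroup.index_eq_one.1 h5]
        exact Subgroup.mem_top _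
      · have h5 : (R.subgroupOf P).index = 2 := Nat.eq_of_mul_eq_mul_left (show 0 < 2 ^ 18 by norm_num) (by rw [h1, ← pow_succ])
        exact fun v => Subgroup.sq_mem_of_index_two h5 v
    intro v hv
    have h3 : v ^ 2 ∈ R := h2 ⟨v, hv⟩
    have h5 := h4 _ h3
    rw [← pow_mul] at h5
    exact h5
  have hQ0 : IsPGroup 2 (zpowers x) := IsPGroup.of_card (n := 4) (by rw [Nat.card_zpowers, hx]; norm_num)
  obtain ⟨Q, hQ⟩ := hQ0.exists_le_sylow
  obtain ⟨g, rfl⟩ := MulAction.exists_smul_eq K P Q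
  have hxQ : x ∈ g • P := hQ (mem_zpowers x)
  rw [← SetLike.mem_coe, Sylow.coe_smul, Set.mem_smul_set] at hxQ
  obtain ⟨v, hvP, hvx⟩ := hxQ
  have h1 := hv v hvP
  have h2 : x = g * v * g⁻¹ := hvx.symm
  have h3 : x ^ 8 = 1 := by rw [h2, conj_pow, h1, mul_one, mul_inv_cancel]
  have h4 := orderOf_dvd_of_pow_eq_one h3
  rw [hx] at h4
  norm_num at h4

end numerics

section

variable {F : Type} [Field F] [Fintype F]

/-- an element of order `16` of `²E₆(3)` -/
theorem exists_sixteen (hK : Fintype.card F = 3 ^ 2) : ∃ x : ↥(Lie.twistedE6 F 3), orderOf x = 16 := by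
  have hq : IsPrimePow 3 := Nat.prime_three.isPrimePow
  obtain ⟨T8, c8', -, m8, -, -⟩ := Cfsg.Agent.H129.CycCard.card_tE6_8 hq hK (m := 656) (r := 41) (by norm_num)
    (by norm_num) (by norm_num) (by norm_num)
  obtain ⟨s, hs⟩ := c8'.exists_generator
  have h1 : orderOf (s : ↥(Lie.twistedE6 F 3)) = Nat.card ↥T8 := by
    rw [Subgroup.orderOf_coe]
    exact orderOf_eq_card_of_forall_mem_zpowers hs
  have h2 : 16 ∣ orderOf (s : ↥(Lie.twistedE6 F 3)) := by
    rw [h1]
    have h3 : Nat.gcd 3 (3 + 1) = 1 := by norm_num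
    rw [h3, one_mul] at m8
    exact Dvd.dvd.trans (by norm_num) m8
  have hfin : Finite ↥(Lie.twistedE6 F 3) := inferInstance
  refine ⟨(s : ↥(Lie.twistedE6 F 3)) ^ (orderOf (s : ↥(Lie.twistedE6 F 3)) / 16), ?_⟩
  exact orderOf_pow_orderOf_div (orderOf_pos _).ne' h2

/-- **`q = 3`, the normal `2`-subgroups commute with `w`.** -/
theorem commute_w_three {q : ℕ} (hq3 : q = 3) (hK : Fintype.card F = q ^ 2)
    (hdT : Nat.card ↥(Lie.twistedE6 F q) ∣ OL .TE6 q) {K : Subgroup ↥(Lie.twistedE6 F q)} {y w : K}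
    (hy : orderOf y = Ph 12 q) (hw : orderOf w = 7) (hyw : Commute y w) {R : Subgroup K} (hRn : R.Normal)
    (hR : IsPGroup 2 R) : ∀ u ∈ R, Commute u w := by
  subst hq3
  have := Fact.mk Nat.prime_two
  have := Fact.mk Nat.prime_three
  have hfin : Finite ↥(Lie.twistedE6 F 3) := inferInstance
  have hch : CharP F 3 := charP_of_card_eq_prime_pow hK
  have hq : IsPrimePow 3 := Nat.prime_three.isPrimePow
  rw [ph3] at hy
  have h20T : ¬ 2 ^ 20 ∣ Nat.card ↥(Lie.twistedE6 F 3) := fun h => by
    have h8 : ¬ 2 ^ 20 ∣ OL .TE6 3 := by decide +kernel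
    exact h8 (h.trans hdT)
  have h20 : ¬ 2 ^ 20 ∣ Nat.card K := fun h => h20T (h.trans (Subgroup.card_subgroup_dvd_card K))
  have hP : Prim 3 12 73 := prim_of_ph (q := 3) (by norm_num) (by norm_num) (by rw [ph3])
  have hbig : Big K 73 (Ph 12 3 * k0 3) 12 := (big0 hq hK hP).subgroup K
  have hk : Ph 12 3 * k0 3 = 511 := by decide +kernel
  rw [hk] at hbig
  -- `y` has no fixed points
  have hfix : ∀ a ∈ R, Commute a y → a = 1 := by
    intro a ha hay
    have h1 := hbig.card y hy
    have h2 : a ∈ centralizer ({y} : Set K) := mem_centralizer_singleton_iff.2 hay.eq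
    have h3 : orderOf a ∣ 511 := by
      have h4 := orderOf_dvd_natCard (⟨a, h2⟩ : centralizer ({y} : Set K))
      rw [Subgroup.orderOf_mk] at h4
      exact h4.trans h1
    obtain ⟨k, hk2⟩ := hR ⟨a, ha⟩
    have h4 : a ^ 2 ^ k = 1 := congrArg Subtype.val hk2
    have h5 := orderOf_dvd_of_pow_eq_one h4
    have h6 : Nat.Coprime (2 ^ k) 511 := Nat.Coprime.pow_left k (by norm_num)
    have h7 := Nat.dvd_gcd h5 h3
    rw [h6, Nat.dvd_one] at h7
    exact orderOf_eq_one_iff.1 h7
  obtain ⟨τ, hτ⟩ := fth_TE6 (F := F) 3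
  have hτK : Function.Injective (τ.comp K.subtype) := hτ.comp K.subtype_injective
  have h18 : Nat.card R ≠ 2 ^ 18 := by
    intro h
    have h1 := pow_four hy hRn hR hfix h20 h
    obtain ⟨x, hx⟩ := exists_sixteen hK
    refine no_sixteen h20T (R := R.map K.subtype) ?_ ?_ x hx
    · rw [← h]
      exact Nat.card_congr (R.equivMapOfInjective K.subtype K.subtype_injective).symm.toEquiv
    · rintro _ ⟨u, hu, rfl⟩
      rw [← map_pow, h1 u hu, map_one]
  have hyn : y ^ 73 = 1 := by rw [← hy, pow_orderOf_eq_one]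
  refine commute_w' hτK Nat.prime_three (by norm_num) hy (by norm_num) hw hyw (by norm_num) Nat.prime_two (by norm_num)
    (by norm_num) (by norm_num) hR hfix (by rw [Fintype.card_fin]; norm_num) ?_
  intro k j hk1 hjk h1 h2 _
  have h3 : k = 0 ∨ k = 9 := by
    rcases card_normal hy hRn hR hfix h20 with h4 | h4 | h4
    · left
      exact Nat.pow_right_injective le_rfl (hk1.symm.trans h4)
    · right
      exact Nat.pow_right_injective le_rfl (hk1.symm.trans h4)
    · exact absurd h4 h18
  have h4 := nine_of (k := j) (by omega) h2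
  omega

end

end Cfsg.Agent.H682.TE6
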