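import Cfsg.Agent.H56.Exc.Full
import Cfsg.Agent.H563.KG.RedW

/-!
# A torus of order `n` centralises the normal subgroups of order prime to `n` (helper682)

`K` is a finite group, `y ∈ K` has order `n`, the primes of `n` are big.

* `commute_core` : if `y` centralises the normal `t`-subgroups of `K` contained in `O`, then `y` centralises `O`;
* `commute_abelian` : `y` centralises the abelian normal subgroups of order prime to `n`, if `K` is linear of degree
  less than `n`;
* `commute_prime` : the same if `n` is prime and does not divide `t ^ k - 1`.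
-/

set_option autoImplicit false
set_option linter.unusedSectionVars false

namespace Cfsg.Agent.H682.TE6

open Subgroup Cfsg.Agent.H56.Exc Cfsg.Agent.H563.KG

universe u

section

variable {K : Type u} [Group K] [Finite K] {n m e : ℕ}

/-- an element of prime order `r ∣ n` commuting with a power of `y` of order `r` commutes with `y` -/
theorem commute_of_pow {r : ℕ} (h : Big K r m e) {y x a : K} (hx : x ∈ zpowers y) (hxr : orderOf x = r)
    (ha : Commute a x) : Commute a y := by
  have hyC : y ∈ centralizer {x} := by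
    rw [mem_centralizer_singleton_iff]
    obtain ⟨k, rfl⟩ := hx
    exact ((Commute.refl y).zpow_right k).eq
  have haC : a ∈ centralizer {x} := by
    rw [mem_centralizer_singleton_iff]
    exact ha.eq
  have := h.cyc x hxr
  have hcomm : IsMulCommutative ↥(centralizer ({x} : Set K)) := by
    obtain ⟨g, hg⟩ := this.exists_generator
    refine ⟨⟨fun u v => ?_⟩⟩
    obtain ⟨i, rfl⟩ := hg u
    obtain ⟨j, rfl⟩ := hg v
    exact (Commute.zpow_zpow (Commute.refl g) i j).eq
  exact congrArg Subtype.val (hcomm.is_comm.comm ⟨a, haC⟩ ⟨y, hyC⟩)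

theorem exists_prime_pow' {y : K} {r : ℕ} (_ : r.Prime) (hry : r ∣ orderOf y) : ∃ x ∈ zpowers y, orderOf x = r := by
  obtain ⟨k, hk⟩ := hry
  have h0 : 0 < orderOf y := orderOf_pos y
  have hk0 : k ≠ 0 := by rintro rfl; omega
  refine ⟨y ^ k, ⟨k, zpow_natCast y k⟩, ?_⟩
  rw [orderOf_pow_of_dvd hk0 (by rw [hk]; exact dvd_mul_left _ _), hk, Nat.mul_div_cancel _ (Nat.pos_of_ne_zero hk0)]

/-- if the commutator of `u` and `y` commutes with `y` and has order prime to `n`, it is trivial -/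
theorem commute_of_comm {y u f : K} (hy : orderOf y = n) (hf : u * y * u⁻¹ = f * y) (hfy : Commute f y)
    (hco : (orderOf f).Coprime n) : Commute u y := by
  have h1 : (f * y) ^ n = 1 := by
    rw [← hf, conj_pow, ← hy, pow_orderOf_eq_one, mul_one, mul_inv_cancel]
  rw [hfy.mul_pow, ← hy, pow_orderOf_eq_one, mul_one, hy] at h1
  have h2 := orderOf_dvd_of_pow_eq_one h1
  have h3 : orderOf f = 1 := Nat.dvd_one.1 (hco ▸ Nat.dvd_gcd dvd_rfl h2)
  rw [orderOf_eq_one_iff] at h3
  rw [h3, one_mul, mul_inv_eq_iff_eq_mul] at hf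
  exact hf

theorem coprime_of {O : Subgroup K} (hO : ∀ r, r.Prime → r ∣ n → ¬ r ∣ Nat.card O) {f : K} (hf : f ∈ O) :
    (orderOf f).Coprime n := by
  rw [Nat.coprime_iff_gcd_eq_one]
  by_contra h
  obtain ⟨r, hr, hrd⟩ := Nat.exists_prime_and_dvd h
  refine hO r hr (hrd.trans (Nat.gcd_dvd_right _ _)) ((hrd.trans (Nat.gcd_dvd_left _ _)).trans ?_)
  have := orderOf_dvd_natCard (⟨f, hf⟩ : O)
  rwa [Subgroup.orderOf_mk] at this

/-- normal subgroups of order prime to a big prime are solvable -/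
theorem isSolvable_of_big (hE : CycFixSolv.{u}) {r : ℕ} (h : Big K r m e) (hrK : r ∣ Nat.card K) {O : Subgroup K}
    [O.Normal] (hO : ¬ r ∣ Nat.card O) : Group.IsSolvable O := by
  have := Fact.mk h.prime
  obtain ⟨x, hx⟩ := exists_prime_orderOf_dvd_card' r hrK
  apply hE O (MulAut.conjNormal (H := O) x) r h.prime _ hO
  · refine ⟨(Subgroup.centralizer {x}).comap O.subtype, ?_, fun a ha => ?_⟩
    · have := h.cyc x hx
      let g : ↥((Subgroup.centralizer {x}).comap O.subtype) →* ↥(Subgroup.centralizer {x}) :=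
        (O.subtype.comp ((Subgroup.centralizer {x}).comap O.subtype).subtype).codRestrict _ fun y => y.2
      exact isCyclic_of_injective g fun a b hab => by
        have h3 : ((a : O) : K) = ((b : O) : K) :=
          congrArg (fun z : ↥(Subgroup.centralizer {x}) => (z : K)) hab
        exact Subtype.ext (Subtype.ext h3)
    · rw [Subgroup.mem_comap, Subgroup.mem_centralizer_singleton_iff]
      have h2 := congrArg Subtype.val ha
      rw [MulAut.conjNormal_apply, mul_inv_eq_iff_eq_mul] at h2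
      exact h2.symm
  · rw [← map_pow, ← hx, pow_orderOf_eq_one, map_one]

/-- a normal subgroup centralised by `y` is centralised by the normal closure of `y` -/
theorem le_centralizer_closure {R : Subgroup K} [R.Normal] {y : K} (h : ∀ u ∈ R, Commute u y) :
    R ≤ centralizer (Subgroup.normalClosure ({y} : Set K) : Set K) := by
  have h1 : Subgroup.normalClosure ({y} : Set K) ≤ centralizer (R : Set K) := by
    apply Subgroup.normalClosure_le_normal
    intro z hz
    rw [Set.mem_singleton_iff] at hz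
    subst hz
    show z ∈ centralizer (R : Set K)
    rw [mem_centralizer_iff]
    exact fun u hu => (h u hu).eq
  exact Subgroup.le_centralizer_iff.1 h1

/-- **The torus centralises the normal subgroups of order prime to `n`.** -/
theorem commute_core (hn : 1 < n) (hbig : ∀ r, r.Prime → r ∣ n → Big K r m e) {y : K} (hy : orderOf y = n)
    {O : Subgroup K} [O.Normal] (hOs : Group.IsSolvable O) (hO : ∀ r, r.Prime → r ∣ n → ¬ r ∣ Nat.card O)
    (hR : ∀ (t : ℕ) (R : Subgroup K), t.Prime → R.Normal → IsPGroup t R → R ≤ O → ∀ u ∈ R, Commute u y) :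
    ∀ u ∈ O, Commute u y := by
  obtain ⟨r₁, hr₁, hr₁n⟩ := Nat.exists_prime_and_dvd hn.ne'
  obtain ⟨x, hx, hxr⟩ := exists_prime_pow' hr₁ (hy ▸ hr₁n : r₁ ∣ orderOf y)
  set D := Subgroup.normalClosure ({y} : Set K) with hD
  have hyD : y ∈ D := Subgroup.subset_normalClosure rfl
  set Z := O ⊓ centralizer (D : Set K) with hZ
  have hZn : Z.Normal := inferInstance
  have hZy : ∀ z ∈ Z, Commute z y := fun z hz => ((mem_centralizer_iff.1 hz.2) y hyD).symm
  have hDZ : D ≤ centralizer (Z : Set K) := Subgroup.le_centralizer_iff.1 (inf_le_right : Z ≤ centralizer (D : Set K))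
  -- `Z` is abelian
  have hZZ : Z ≤ centralizer (Z : Set K) := by
    have hle : Z ≤ centralizer {x} := by
      intro z hz
      rw [mem_centralizer_singleton_iff]
      obtain ⟨k, rfl⟩ := hx
      exact ((hZy z hz).zpow_right k).eq
    have hcyc := (hbig r₁ hr₁ hr₁n).cyc x hxr
    obtain ⟨g, hg⟩ := hcyc.exists_generator
    intro z hz
    rw [mem_centralizer_iff]
    intro w hw
    obtain ⟨i, hi⟩ := hg ⟨z, hle hz⟩
    obtain ⟨j, hj⟩ := hg ⟨w, hle hw⟩
    have h1 : (g ^ j) * (g ^ i) = (g ^ i) * (g ^ j) := (Commute.zpow_zpow (Commute.refl g) j i).eq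
    have hi' : g ^ i = ⟨z, hle hz⟩ := hi
    have hj' : g ^ j = ⟨w, hle hw⟩ := hj
    rw [hi', hj'] at h1
    exact congrArg Subtype.val h1
  set W := O ⊓ centralizer (Z : Set K) with hW
  have hWn : W.Normal := inferInstance
  have hZW : Z ≤ W := le_inf inf_le_left hZZ
  have key : W ≤ Z := by
    by_contra hne
    set π := QuotientGroup.mk' Z with hπ
    have hπs := QuotientGroup.mk'_surjective Z
    have hN : (W.map π).Normal := hWn.map π hπs
    have hWs : Group.IsSolvable W := Group.isSolvable_of_isSolvable_injective (f := Subgroup.inclusion (inf_le_left : W ≤ O))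
      (Subgroup.inclusion_injective _)
    have hsolv : Group.IsSolvable (W.map π) := by
      have := hWs
      exact Group.isSolvable_of_surjective (f := (π.subgroupMap W)) (π.subgroupMap_surjective W)
    have hne' : W.map π ≠ ⊥ := by
      intro h
      apply hne
      rw [Subgroup.map_eq_bot_iff, QuotientGroup.ker_mk'] at h
      exact h
    obtain ⟨t, ht, A', hAn, hAN, hA0, -, hAt⟩ := exists_elem' hN hsolv hne'
    have := Fact.mk ht
    set A := A'.comap π with hA
    have hAn' : A.Normal := hAn.comap π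
    have hAW : A ≤ W := by
      intro a ha
      obtain ⟨w, hw, hwa⟩ := hAN (show π a ∈ A' from ha)
      have h1 : w⁻¹ * a ∈ Z := QuotientGroup.eq.1 hwa
      have h2 := W.mul_mem hw (hZW h1)
      rwa [mul_inv_cancel_left] at h2
    -- `A` is nilpotent
    have hnil : Group.IsNilpotent A := by
      have hZA : (Z.subgroupOf A).Normal := inferInstance
      have h1 : (π.comp A.subtype).ker ≤ center A := by
        intro a ha
        have h2 : (a : K) ∈ Z := (QuotientGroup.eq_one_iff _).1 ha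
        rw [mem_center_iff]
        intro b
        have h3 : (b : K) ∈ centralizer (Z : Set K) := (hAW b.2).2
        exact Subtype.ext ((mem_centralizer_iff.1 h3) a h2).symm
      have h2 : IsPGroup t (π.comp A.subtype).range := by
        rintro ⟨_, ⟨a, rfl⟩⟩
        exact ⟨1, by rw [pow_one]; exact Subtype.ext (hAt _ a.2)⟩
      have h3 : Group.IsNilpotent (π.comp A.subtype).range := h2.isNilpotent
      have := h3
      refine Subgroup.isNilpotent_of_ker_le_center (π.comp A.subtype).rangeRestrict ?_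
      rw [MonoidHom.ker_rangeRestrict]
      exact h1
    obtain ⟨P⟩ : Nonempty (Sylow t A) := inferInstance
    have hPn : (P : Subgroup A).Normal := by
      have h1 := (Group.isNilpotent_of_finite_tfae (G := A)).out 0 3
      exact (h1.1 hnil) t inferInstance P
    have hPc : (P : Subgroup A).Characteristic := P.characteristic_of_normal hPn
    have hRn : ((P : Subgroup A).map A.subtype).Normal := inferInstance
    have hRp : IsPGroup t ((P : Subgroup A).map A.subtype) := P.2.map _
    have hRO : (P : Subgroup A).map A.subtype ≤ O := by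
      rintro _ ⟨a, -, rfl⟩
      exact (hAW a.2).1
    have hRZ : (P : Subgroup A).map A.subtype ≤ Z :=
      le_inf hRO (le_centralizer_closure (hR t _ ht hRn hRp hRO))
    apply hA0
    rw [eq_bot_iff]
    intro a' ha'
    obtain ⟨a, rfl⟩ := hπs a'
    have haA : a ∈ A := ha'
    rw [Subgroup.mem_bot]
    -- a power of `a` prime to `t` is in `P`
    obtain ⟨j, hj⟩ := Nat.ordProj_dvd (orderOf a) t
    have hj0 : orderOf a ≠ 0 := (orderOf_pos a).ne'
    have hcop : ¬ t ∣ orderOf a / t ^ (orderOf a).factorization t := Nat.not_dvd_ordCompl ht hj0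
    have h1 : a ^ (orderOf a / t ^ (orderOf a).factorization t) ∈ (P : Subgroup A).map A.subtype := by
      refine ⟨⟨a, haA⟩ ^ (orderOf a / t ^ (orderOf a).factorization t), ?_, rfl⟩
      set b : A := ⟨a, haA⟩ ^ (orderOf a / t ^ (orderOf a).factorization t) with hb
      have h2 : IsPGroup t (zpowers b) := by
        refine IsPGroup.of_card (n := (orderOf a).factorization t) ?_
        rw [Nat.card_zpowers, hb, orderOf_pow_of_dvd, Subgroup.orderOf_mk]
        · rw [Nat.div_div_self (Nat.ordProj_dvd _ _) hj0]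
        · exact fun h => hcop (h ▸ dvd_zero t)
        · rw [Subgroup.orderOf_mk]
          exact Nat.div_dvd_of_dvd (Nat.ordProj_dvd _ _)
      obtain ⟨Q, hQ⟩ := h2.exists_le_sylow
      have h3 : Q = P := by
        have := P.unique_of_normal hPn
        exact Subsingleton.elim Q P
      rw [← h3]
      exact hQ (mem_zpowers b)
    have h2 : π a ^ (orderOf a / t ^ (orderOf a).factorization t) = 1 := by
      rw [← map_pow]
      exact (QuotientGroup.eq_one_iff _).2 (hRZ h1)
    have h3 : π a ^ t = 1 := hAt _ ha'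
    have h4 := Nat.dvd_gcd (orderOf_dvd_of_pow_eq_one h2) (orderOf_dvd_of_pow_eq_one h3)
    have h5 : Nat.gcd (orderOf a / t ^ (orderOf a).factorization t) t = 1 :=
      ((Nat.Prime.coprime_iff_not_dvd ht).2 hcop).symm
    rw [h5, Nat.dvd_one] at h4
    exact orderOf_eq_one_iff.1 h4
  intro u hu
  have hf : u * y * u⁻¹ = (u * y * u⁻¹ * y⁻¹) * y := by group
  have hfW : u * y * u⁻¹ * y⁻¹ ∈ W := by
    refine ⟨?_, ?_⟩
    · have h1 : u * (y * u⁻¹ * y⁻¹) ∈ O := O.mul_mem hu ((inferInstance : O.Normal).conj_mem _ (O.inv_mem hu) y)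
      have h2 : u * (y * u⁻¹ * y⁻¹) = u * y * u⁻¹ * y⁻¹ := by group
      rwa [h2] at h1
    · have hy' : y ∈ centralizer (Z : Set K) := hDZ hyD
      have hCn : (centralizer (Z : Set K)).Normal := inferInstance
      exact (centralizer (Z : Set K)).mul_mem (hCn.conj_mem _ hy' u) ((centralizer (Z : Set K)).inv_mem hy')
  have hfZ := key hfW
  exact commute_of_comm hy hf (hZy _ hfZ) (coprime_of hO hfW.1)

/-- an `r`-element has a conjugate in a subgroup of index prime to `r` -/
theorem exists_conj_mem {H : Type*} [Group H] [Finite H] {r : ℕ} (hr : r.Prime) {Y : Subgroup H} (hY : ¬ r ∣ Y.index)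
    {x : H} (hx : orderOf x = r) : ∃ g : H, g⁻¹ * x * g ∈ Y := by
  have := Fact.mk hr
  have hP : IsPGroup r (zpowers x) := IsPGroup.of_card (n := 1) (by rw [Nat.card_zpowers, hx, pow_one])
  have : Finite (H ⧸ Y) := inferInstance
  obtain ⟨a, ha⟩ := hP.nonempty_fixed_point_of_prime_not_dvd_card (H ⧸ Y) (by rwa [← Subgroup.index])
  obtain ⟨g, rfl⟩ := QuotientGroup.mk_surjective a
  refine ⟨g, ?_⟩
  have h1 := ha ⟨x, mem_zpowers x⟩
  have h2 : ((x * g : H) : H ⧸ Y) = (g : H ⧸ Y) := h1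
  rw [QuotientGroup.eq] at h2
  have h3 := Y.inv_mem h2
  have h4 : ((x * g)⁻¹ * g)⁻¹ = g⁻¹ * x * g := by group
  rwa [h4] at h3

/-- the commutators `[y, b]`, `b ∈ R` -/
def comm (y : K) (R : Subgroup K) [hn : R.Normal] (hR : ∀ a ∈ R, ∀ b ∈ R, a * b = b * a) : Subgroup K where
  carrier := {a | ∃ b ∈ R, a = y * b * y⁻¹ * b⁻¹}
  one_mem' := ⟨1, R.one_mem, by group⟩
  mul_mem' := by
    rintro _ _ ⟨b, hb, rfl⟩ ⟨c, hc, rfl⟩
    refine ⟨b * c, R.mul_mem hb hc, ?_⟩
    have h1 := hR _ (R.inv_mem hb) _ (hn.conj_mem _ hc y)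
    have h2 := hR _ (R.inv_mem hb) _ (R.inv_mem hc)
    calc y * b * y⁻¹ * b⁻¹ * (y * c * y⁻¹ * c⁻¹) = y * b * y⁻¹ * (b⁻¹ * (y * c * y⁻¹)) * c⁻¹ := by group
      _ = y * b * y⁻¹ * ((y * c * y⁻¹) * b⁻¹) * c⁻¹ := by rw [h1]
      _ = y * b * c * y⁻¹ * (b⁻¹ * c⁻¹) := by group
      _ = y * b * c * y⁻¹ * (c⁻¹ * b⁻¹) := by rw [h2]
      _ = y * (b * c) * y⁻¹ * (b * c)⁻¹ := by group
  inv_mem' := by
    rintro _ ⟨b, hb, rfl⟩
    refine ⟨b⁻¹, R.inv_mem hb, ?_⟩
    have h1 := hR _ hb _ (hn.conj_mem _ (R.inv_mem hb) y)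
    calc (y * b * y⁻¹ * b⁻¹)⁻¹ = b * (y * b⁻¹ * y⁻¹) := by group
      _ = y * b⁻¹ * y⁻¹ * b := h1
      _ = y * b⁻¹ * y⁻¹ * b⁻¹⁻¹ := by rw [inv_inv]

theorem comm_le {y : K} {R : Subgroup K} [hn : R.Normal] (hR : ∀ a ∈ R, ∀ b ∈ R, a * b = b * a) : comm y R hR ≤ R := by
  rintro _ ⟨b, hb, rfl⟩
  exact R.mul_mem (hn.conj_mem _ hb y) (R.inv_mem hb)

/-- the fixed points in the commutator subgroup are trivial -/
theorem comm_fix {y : K} (hy : orderOf y = n) {R : Subgroup K} [hn : R.Normal]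
    (hR : ∀ a ∈ R, ∀ b ∈ R, a * b = b * a) (hco : (Nat.card R).Coprime n) {a : K} (ha : a ∈ comm y R hR)
    (hc : Commute a y) : a = 1 := by
  obtain ⟨b, hb, rfl⟩ := ha
  set a := y * b * y⁻¹ * b⁻¹ with ha
  -- `y ^ i b y ^ (-i) = a ^ i b`
  have key : ∀ i : ℕ, y ^ i * b * (y ^ i)⁻¹ = a ^ i * b := by
    intro i
    induction i with
    | zero => simp
    | succ i ih =>
      have h1 : y ^ (i + 1) * b * (y ^ (i + 1))⁻¹ = y * (y ^ i * b * (y ^ i)⁻¹) * y⁻¹ := by
        rw [pow_succ']; group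
      have h2 : y * a ^ i = a ^ i * y := (hc.symm.pow_right i).eq
      rw [h1, ih, ← mul_assoc, h2]
      have h3 : y * b * y⁻¹ = a * b := by rw [ha]; group
      calc a ^ i * y * b * y⁻¹ = a ^ i * (y * b * y⁻¹) := by group
        _ = a ^ (i + 1) * b := by rw [h3, pow_succ]; group
  have h1 := key n
  rw [← hy, pow_orderOf_eq_one, hy, one_mul, inv_one, mul_one] at h1
  have h2 : a ^ n = 1 := by
    have := h1.symm
    rwa [mul_eq_right] at this
  have h3 := orderOf_dvd_of_pow_eq_one h2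
  have h4 : orderOf a ∣ Nat.card R := by
    have hm : a ∈ R := comm_le hR ⟨b, hb, rfl⟩
    have := orderOf_dvd_natCard (⟨a, hm⟩ : R)
    rwa [Subgroup.orderOf_mk] at this
  exact orderOf_eq_one_iff.1 (Nat.dvd_one.1 (hco ▸ Nat.dvd_gcd h4 h3))

/-- **Abelian normal `t`-subgroups.** -/
theorem commute_abelian {F : Type*} [Field F] {ι : Type*} [Fintype ι] [DecidableEq ι] {p : ℕ} [CharP F p]
    {τ : K →* Matrix.GeneralLinearGroup ι F} (hτ : Function.Injective τ) (hpp : p.Prime)
    (hbig : ∀ r, r.Prime → r ∣ n → Big K r m e) {y : K} (hy : orderOf y = n) {t : ℕ} (ht : t.Prime) (htp : t ≠ p)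
    {R : Subgroup K} [hRn : R.Normal] (hRt : IsPGroup t R) (hRc : ∀ a ∈ R, ∀ b ∈ R, a * b = b * a) (htn : ¬ t ∣ n)
    (hN : Fintype.card ι < n ∨ (n.Prime ∧ ∀ k, 0 < k → t ^ k ∣ Nat.card K → ¬ n ∣ t ^ k - 1)) :
    ∀ u ∈ R, Commute u y := by
  have := Fact.mk ht
  set R₀ := comm y R hRc with hR₀
  have hR₀R : R₀ ≤ R := comm_le hRc
  obtain ⟨kR, hkR⟩ := IsPGroup.iff_card.1 hRt
  have hco : (Nat.card R).Coprime n := by
    rw [hkR]
    exact Nat.Coprime.pow_left _ ((Nat.Prime.coprime_iff_not_dvd ht).2 htn)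
  -- the group `R ⟨y⟩`
  set H := zpowers y ⊔ R with hH
  have hyH : y ∈ H := (le_sup_left : zpowers y ≤ H) (mem_zpowers y)
  have hRH : R ≤ H := le_sup_right
  have hnorm : H ≤ normalizer (R₀ : Set K) := by
    have hy1 : ∀ z : K, (z = y ∨ z = y⁻¹) → ∀ a ∈ R₀, z * a * z⁻¹ ∈ R₀ := by
      rintro z hz _ ⟨b, hb, rfl⟩
      refine ⟨z * b * z⁻¹, hRn.conj_mem _ hb z, ?_⟩
      rcases hz with rfl | rfl <;> group
    have hyN : y ∈ normalizer (R₀ : Set K) := by
      rw [mem_normalizer_iff]
      intro a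
      refine ⟨hy1 y (Or.inl rfl) a, fun h => ?_⟩
      have h2 := hy1 y⁻¹ (Or.inr rfl) _ h
      have h3 : y⁻¹ * (y * a * y⁻¹) * y⁻¹⁻¹ = a := by group
      rwa [h3] at h2
    have hRN : R ≤ normalizer (R₀ : Set K) := by
      intro b hb
      rw [mem_normalizer_iff]
      intro a
      constructor
      · intro ha
        have : b * a * b⁻¹ = a := by rw [hRc b hb a (hR₀R ha), mul_inv_cancel_right]
        rwa [this]
      · intro h
        have h2 : b⁻¹ * (b * a * b⁻¹) * b = b * a * b⁻¹ := by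
          rw [hRc _ (R.inv_mem hb) _ (hR₀R h), inv_mul_cancel_right]
        have h3 : b⁻¹ * (b * a * b⁻¹) * b = a := by group
        rw [h3] at h2
        rw [h2]
        exact h
    rw [hH]
    exact sup_le (zpowers_le.2 hyN) hRN
  set A := R₀.subgroupOf H with hA
  have hAn : A.Normal := by
    refine ⟨fun a ha g => ?_⟩
    have h1 := (mem_normalizer_iff.1 (hnorm g.2) (a : K)).1 ha
    exact h1
  -- the index of `⟨y⟩`
  have hidx : ∀ r, r.Prime → r ∣ n → ¬ r ∣ ((zpowers y).subgroupOf H).index := by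
    intro r hr hrn hd
    have h1 : R.relIndex H = R.relIndex (zpowers y) := Subgroup.relIndex_sup_right _ _
    have h2 : R.relIndex (zpowers y) ∣ n := by
      rw [← hy, ← Nat.card_zpowers]
      exact Subgroup.relIndex_dvd_card _ _
    have h3 := Subgroup.relIndex_mul_relIndex ⊥ R H bot_le hRH
    have h4 := Subgroup.relIndex_mul_relIndex ⊥ (zpowers y) H bot_le le_sup_left
    rw [Subgroup.relIndex_bot_left] at h3 h4
    rw [Subgroup.relIndex_bot_left] at h3 h4
    rw [Nat.card_zpowers, hy] at h4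
    rw [h1] at h3
    obtain ⟨c, hc⟩ := h2
    have hn0 : n ≠ 0 := by rw [← hy]; exact (orderOf_pos y).ne'
    have hk0 : R.relIndex (zpowers y) ≠ 0 := by
      intro h
      rw [h, zero_mul] at hc
      exact hn0 hc
    have h5 : (zpowers y).relIndex H ∣ Nat.card R := by
      refine ⟨c, ?_⟩
      apply Nat.eq_of_mul_eq_mul_right (Nat.pos_of_ne_zero hk0)
      rw [h3, ← h4]
      conv_lhs => rw [hc]
      ring
    have h6 : r ∣ Nat.card R := hd.trans h5
    have h7 := Nat.dvd_gcd h6 hrn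
    rw [hco] at h7
    exact hr.one_lt.ne' (Nat.dvd_one.1 h7)
  have hfree : ∀ x : H, (orderOf x).Prime → orderOf x ∣ n → ∀ a ∈ A, x * a = a * x → a = 1 := by
    intro x hx hxn a ha hxa
    obtain ⟨g, hg⟩ := exists_conj_mem hx (hidx _ hx hxn) rfl
    have hz : ((g⁻¹ * x * g : H) : K) ∈ zpowers y := hg
    have ho : orderOf ((g⁻¹ * x * g : H) : K) = orderOf x := by
      rw [Subgroup.orderOf_coe]
      have := (MulAut.conj g⁻¹).orderOf_eq x
      rw [MulAut.conj_apply, inv_inv] at this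
      exact this
    have h1 : g⁻¹ * a * g ∈ A := by
      have := hAn.conj_mem a ha g⁻¹
      rwa [inv_inv] at this
    have h2 : Commute ((g⁻¹ * a * g : H) : K) ((g⁻¹ * x * g : H) : K) := by
      have h3 : (g⁻¹ * a * g) * (g⁻¹ * x * g) = (g⁻¹ * x * g) * (g⁻¹ * a * g) := by
        calc (g⁻¹ * a * g) * (g⁻¹ * x * g) = g⁻¹ * (a * x) * g := by group
          _ = g⁻¹ * (x * a) * g := by rw [hxa]
          _ = _ := by group
      exact congrArg Subtype.val h3
    have h3 : Commute ((g⁻¹ * a * g : H) : K) y := commute_of_pow (hbig _ hx hxn) hz ho h2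
    have h4 := comm_fix hy hRc hco h1 h3
    have h5 : g⁻¹ * a * g = 1 := Subtype.ext h4
    have h6 : a = g * (g⁻¹ * a * g) * g⁻¹ := by group
    rw [h6, h5, mul_one, mul_inv_cancel]
  have hbot : A = ⊥ := by
    rcases hN with hN | ⟨hnp, hN⟩
    · refine eq_bot_of_dvd (τ := τ.comp H.subtype) (hτ.comp H.subtype_injective) (fun a ha b hb => ?_) ?_
        (n := n) ?_ hfree hN
      · exact Subtype.ext (hRc _ (hR₀R ha) _ (hR₀R hb))
      · intro h
        have h1 : Nat.card A ∣ Nat.card R := by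
          rw [hA, Nat.card_congr (Subgroup.subgroupOfEquivOfLe (hR₀R.trans hRH)).toEquiv]
          exact Subgroup.card_dvd_of_le hR₀R
        have h2 := h.trans h1
        rw [hkR] at h2
        exact htp ((Nat.prime_dvd_prime_iff_eq hpp ht).1 (hpp.dvd_of_dvd_pow h2)).symm
      · rw [← hy, ← Subgroup.orderOf_mk y hyH]
        exact orderOf_dvd_natCard _
    · by_contra hne
      have := Fact.mk hnp
      have hyo : orderOf (⟨y, hyH⟩ : H) = n := by rw [Subgroup.orderOf_mk, hy]
      have h1 := dvd_card_sub_one (A := A) hnp hyo fun a ha hc => hfree _ (by rw [hyo]; exact hnp) (by rw [hyo]) a ha hc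
      have hAt : IsPGroup t A := by
        intro a
        obtain ⟨k, hk⟩ := hRt ⟨((a : H) : K), hR₀R a.2⟩
        exact ⟨k, Subtype.ext (Subtype.ext (congrArg (fun z : R => (z : K)) hk))⟩
      obtain ⟨k, hk⟩ := IsPGroup.iff_card.1 hAt
      have hk0 : 0 < k := by
        rcases Nat.eq_zero_or_pos k with rfl | h
        · rw [pow_zero, Subgroup.card_eq_one] at hk
          exact absurd hk hne
        · exact h
      rw [hk] at h1
      refine hN k hk0 ?_ h1
      rw [← hk, hA, Nat.card_congr (Subgroup.subgroupOfEquivOfLe (hR₀R.trans hRH)).toEquiv]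
      exact Subgroup.card_subgroup_dvd_card (R₀ : Subgroup K)
  intro u hu
  have h1 : (⟨y * u * y⁻¹ * u⁻¹, hRH (hR₀R ⟨u, hu, rfl⟩)⟩ : H) ∈ A := ⟨u, hu, rfl⟩
  rw [hbot, Subgroup.mem_bot] at h1
  have h2 : y * u * y⁻¹ * u⁻¹ = 1 := congrArg Subtype.val h1
  rw [mul_inv_eq_one, mul_inv_eq_iff_eq_mul] at h2
  exact h2.symm

/-- **Normal `t`-subgroups, `t` not a prime of the torus.** -/
theorem eq_bot_of_free {F : Type*} [Field F] {ι : Type*} [Fintype ι] [DecidableEq ι] {p : ℕ} [CharP F p]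
    {τ : K →* Matrix.GeneralLinearGroup ι F} (hτ : Function.Injective τ) (hpp : p.Prime) (hn : 1 < n)
    (hbig : ∀ r, r.Prime → r ∣ n → Big K r m e) {y : K} (hy : orderOf y = n) {t : ℕ} (ht : t.Prime) (htp : t ≠ p)
    {R : Subgroup K} [hRn : R.Normal] (hRt : IsPGroup t R) (htn : ¬ t ∣ n) (htm : ¬ t ∣ m)
    (hN : Fintype.card ι < n ∨ (n.Prime ∧ ∀ k, 0 < k → t ^ k ∣ Nat.card K → ¬ n ∣ t ^ k - 1)) : R = ⊥ := by
  by_contra hne
  have := Fact.mk ht
  have hnt : Nontrivial R := (Subgroup.nontrivial_iff_ne_bot R).2 hne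
  have hc := hRt.center_nontrivial
  have hchar : (center R).Characteristic := inferInstance
  have hCn : ((center R).map R.subtype).Normal := inferInstance
  have hCt : IsPGroup t ((center R).map R.subtype) := (hRt.to_subgroup _).map _
  have h1 := commute_abelian hτ hpp hbig hy ht htp hCt (by
    rintro _ ⟨a, ha, rfl⟩ _ ⟨b, -, rfl⟩
    exact (congrArg Subtype.val (mem_center_iff.1 ha b)).symm) htn hN
  obtain ⟨z, hz⟩ := exists_ne (1 : center R)
  obtain ⟨r₁, hr₁, hr₁n⟩ := Nat.exists_prime_and_dvd hn.ne'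
  obtain ⟨x, hx, hxr⟩ := exists_prime_pow' hr₁ (hy ▸ hr₁n : r₁ ∣ orderOf y)
  have hzx : (((z : R) : K)) ∈ centralizer ({x} : Set K) := by
    rw [mem_centralizer_singleton_iff]
    obtain ⟨k, rfl⟩ := hx
    exact ((h1 _ ⟨z, z.2, rfl⟩).zpow_right k).eq
  have h2 : orderOf (((z : R) : K)) ∣ m := by
    have h3 := orderOf_dvd_natCard (⟨_, hzx⟩ : ↥(centralizer ({x} : Set K)))
    rw [Subgroup.orderOf_mk] at h3
    exact h3.trans ((hbig r₁ hr₁ hr₁n).card x hxr)
  have h3 : t ∣ orderOf (((z : R) : K)) := by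
    obtain ⟨k, hk⟩ := hRt (z : R)
    have h4 : ((z : R) : K) ^ t ^ k = 1 := congrArg Subtype.val hk
    obtain ⟨j, -, hj⟩ := (Nat.dvd_prime_pow ht).1 (orderOf_dvd_of_pow_eq_one h4)
    rw [hj]
    refine dvd_pow_self t fun h0 => hz ?_
    rw [h0, pow_zero, orderOf_eq_one_iff] at hj
    exact Subtype.ext (Subtype.ext hj)
  exact htm (h3.trans h2)

end

end Cfsg.Agent.H682.TE6
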