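import Cfsg.Agent.H682.TE6.Num
import Cfsg.Agent.H682.TE6.Comm
import Cfsg.Agent.H360.Iso.LinElt
import Cfsg.Agent.H360.Iso.UniElt
import Cfsg.Agent.H377.SpElt
import Cfsg.Agent.H816.OutEmb
import Cfsg.Agent.H934.OutB
import Cfsg.Agent.H56.Exc.BigTF4
import Cfsg.Agent.H190.Cov.K128
import Cfsg.Agent.S2121
import Cfsg.Agent.S2122
import Cfsg.Agent.S2126
import Cfsg.Agent.S2128
import Cfsg.Agent.S2129
import Cfsg.Agent.S0815

/-!
# Names of the characteristic of `²E₆(q)`, the primes of class 12, the structure (helper682, S3938)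

* `kill_elt`, `kill_w` : two kills;
* `eq_te6` : `S` is a normal simple subgroup of `A` with trivial centralizer, `S` is of Lie type in characteristic `p`,
  the primitive primes of class 12 are big in `S`, and an element of `A` of order `t`, `t` a large primitive prime of
  class 6, commutes with an element of order `r` of `S`.  Then `S` is named `²E₆(q)`.
-/

set_option autoImplicit false

namespace Cfsg.Agent.H682.TE6

open Subgroup Cfsg Cfsg.Agent.OrdDiv Cfsg.Agent.H436 Cfsg.Agent.H915.GN Cfsg.Agent.H264.GN Cfsg.Agent.H264.FKS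
  Cfsg.Agent.H56.Exc Cfsg.Agent.H563.KG Cfsg.Agent.H290.ElReg

/-- commuting elements, one of them of order `r`, the other of order not dividing `m` -/
theorem kill_elt {S : Type*} [Group S] [Finite S] {r m e s : ℕ} (hb : Big S r m e) (x : S) (hr : r ∣ orderOf x)
    (hs : s ∣ orderOf x) (hsm : ¬ s ∣ m) : False := by
  obtain ⟨z, hz, hzr⟩ := exists_prime_pow' hb.prime hr
  have h1 := hb.card z hzr
  have h2 : x ∈ centralizer ({z} : Set S) := by
    rw [mem_centralizer_singleton_iff]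
    obtain ⟨k, rfl⟩ := hz
    exact ((Commute.refl x).zpow_right k).eq
  have h3 : orderOf x ∣ Nat.card (centralizer ({z} : Set S)) := by
    have := orderOf_dvd_natCard (⟨x, h2⟩ : centralizer ({z} : Set S))
    rwa [Subgroup.orderOf_mk] at this
  exact hsm (hs.trans (h3.trans h1))

/-- the kill by an element of `A` of large order -/
theorem kill_w {A : Type} [Group A] [Finite A] {S : Subgroup A} [S.Normal] (hc : centralizer (S : Set A) = ⊥)
    {w x : A} {t r m' : ℕ} (ht : t.Prime) (hw : orderOf w = t) (hx : orderOf x = r) (hxS : x ∈ S) (hwx : Commute w x)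
    (hout : ¬ t ∣ Nat.card (Cfsg.Out S)) (hcard : ∀ z : S, orderOf z = r → Nat.card (centralizer ({z} : Set S)) ∣ m')
    (hm : ¬ t ∣ m') : False := by
  have hwS : w ∈ S := by
    refine Cfsg.Agent.H190.Cov.mem_of_index ht hw fun h => hout (h.trans ?_)
    exact Cfsg.Agent.H816.OutEmb.index_dvd S (by rw [hc]; exact bot_le)
  have h1 := hcard ⟨x, hxS⟩ (by rw [Subgroup.orderOf_mk]; exact hx)
  have h2 : (⟨w, hwS⟩ : S) ∈ centralizer ({(⟨x, hxS⟩ : S)} : Set S) :=
    mem_centralizer_singleton_iff.2 (Subtype.ext hwx.eq)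
  have h3 := orderOf_dvd_natCard (⟨⟨w, hwS⟩, h2⟩ : ↥(centralizer ({(⟨x, hxS⟩ : S)} : Set S)))
  rw [← Subgroup.orderOf_coe, Subgroup.orderOf_mk, hw] at h3
  exact hm (h3.trans h1)

section

variable {q r s : ℕ}

theorem q_le_sq (q : ℕ) : q ≤ q ^ 2 := Nat.le_self_pow (by norm_num) _

/-- the primes of class 3 and 4 do not divide `Φ₁₂(q) Φ₆(q)` -/
theorem not_dvd_m (hq : 1 ≤ q) {e : ℕ} (hs : Prim q e s) (he : e = 3 ∨ e = 4) : ¬ s ∣ Ph 12 q * (q ^ 2 - q + 1) := by
  intro h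
  rcases hs.prime.dvd_mul.1 h with h | h
  · rw [← Cfsg.Agent.H563.KG.ncl12_eq] at h
    have := Prim.unique hs (Cfsg.Agent.H563.KG.prim_of_dvd c12 hq hs.prime h)
    omega
  · have h1 : s ∣ q ^ 3 + 1 := by
      have e1 : q ^ 3 + 1 = (q + 1) * (q ^ 2 - q + 1) := by
        have := q_le_sq q
        zify [this]
        ring
      rw [e1]
      exact h.mul_left _
    rcases he with rfl | rfl
    · have h2 := hs.dvd dvd_rfl
      have h3 := Nat.dvd_sub h1 h2
      have h4 : 1 ≤ q ^ 3 := Nat.one_le_pow _ _ hq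
      have h5 : q ^ 3 + 1 - (q ^ 3 - 1) = 2 := by omega
      rw [h5] at h3
      exact ne_two hs (by norm_num) h3
    · exact hs.not_dvd_add (by norm_num) h1

theorem not_dvd_ph (hq : 1 ≤ q) (hs : Prim q 6 s) : ¬ s ∣ Ph 12 q := by
  intro h
  rw [← Cfsg.Agent.H563.KG.ncl12_eq] at h
  have := Prim.unique hs (Cfsg.Agent.H563.KG.prim_of_dvd c12 hq hs.prime h)
  omega

/-- primes `s ∣ q ^ m - 1` do not divide `q ^ m + 1` -/
theorem not_dvd_add_of (hq : 1 ≤ q) {e m : ℕ} (hs : Prim q e s) (he : 3 ≤ e) (h : e ∣ m) : ¬ s ∣ q ^ m + 1 := by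
  intro h1
  have h3 := Nat.dvd_sub h1 (hs.dvd h)
  have h4 : 1 ≤ q ^ m := Nat.one_le_pow _ _ hq
  have h5 : q ^ m + 1 - (q ^ m - 1) = 2 := by omega
  rw [h5] at h3
  exact ne_two hs he h3

theorem prim_sq (hs : Prim q 12 s) : Prim (q ^ 2) 6 s where
  prime := hs.prime
  dvd_iff m := by
    rw [← pow_mul, hs.dvd_iff]
    omega
  not_dvd h := hs.not_dvd_pow _ h

theorem not_dvd_psu3 (hq : 1 ≤ q) (hs : Prim q 6 s) : ¬ s ∣ num (.psu 3 (q ^ 2)) := by
  intro h
  have h6 : num (.psu 3 (q ^ 2)) = (q ^ 2) ^ (3 * (3 - 1) / 2) *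
      ((q ^ 2) ^ 1 + 1) * ((q ^ 2) ^ 2 - 1) * ((q ^ 2) ^ 3 + 1) := by
    show (q ^ 2) ^ (3 * (3 - 1) / 2) * (((q ^ 2) ^ 1 + 1) * (((q ^ 2) ^ 2 - 1) * (((q ^ 2) ^ 3 + 1) * 1))) = _
    ring
  rw [h6] at h
  simp only [← pow_mul] at h
  rcases hs.prime.dvd_mul.1 h with h | h
  · rcases hs.prime.dvd_mul.1 h with h | h
    · rcases hs.prime.dvd_mul.1 h with h | h
      · exact hs.not_dvd_pow _ h
      · exact hs.not_dvd_add (by norm_num) h
    · exact hs.not_dvd_sub (m := 4) (by norm_num) h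
  · exact not_dvd_add_of hq hs (by norm_num) (m := 6) (by norm_num) h

theorem not_dvd_sz (hq : 1 ≤ q) (hs : Prim q 6 s) : ¬ s ∣ num (.sz (q ^ 3)) := by
  intro h
  have h6 : num (.sz (q ^ 3)) = (q ^ 3) ^ 2 * ((q ^ 3 - 1) * ((q ^ 3) ^ 2 + 1)) := rfl
  rw [h6, ← pow_mul] at h
  rcases hs.prime.dvd_mul.1 h with h | h
  · exact hs.not_dvd_pow _ h
  rcases hs.prime.dvd_mul.1 h with h | h
  · exact hs.not_dvd_sub (by norm_num) h
  · exact not_dvd_add_of hq hs (by norm_num) (m := 6) (by norm_num) h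

/-- a prime divisor of an element order -/
theorem dvd_of_top {s N o g k : ℕ} (hs : s.Prime) (h : N ∣ o * g * k) (h1 : s ∣ N) (h2 : ¬ s ∣ g) (h3 : ¬ s ∣ k) : s ∣ o := by
  rcases hs.dvd_mul.1 (h1.trans h) with h4 | h4
  · exact (hs.dvd_mul.1 h4).resolve_right h2
  · exact absurd h4 h3

end

theorem eq_of_pow {p a b : ℕ} (hp : p.Prime) {l : ℕ} (hl : l.Prime) (ha : 1 ≤ a) (h : p ^ a = l ^ b) : p = l ∧ a = b := by
  have h1 : p ∣ l ^ b := by rw [← h]; exact dvd_pow_self _ (by omega)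
  have h2 := (Nat.prime_dvd_prime_iff_eq hp hl).1 (hp.dvd_of_dvd_pow h1)
  subst h2
  exact ⟨rfl, Nat.pow_right_injective hp.two_le h⟩

/-- **The name.** -/
theorem eq_te6 {A : Type} [Group A] [Finite A] {S : Subgroup A} [S.Normal] [IsSimpleGroup S]
    (hna : ¬ IsMulCommutative S) (hc : centralizer (S : Set A) = ⊥)
    {p f : ℕ} (hp : p.Prime) (hf : 1 ≤ f) {g : Grp} (hg : IsNamed g S) (hch : HasChar p g)
    (hdvd : Nat.card S ∣ num (.te6 (p ^ f))) {e : ℕ}
    (hb : ∀ r, Prim (p ^ f) 12 r → Big S r (Ph 12 (p ^ f) * ((p ^ f) ^ 2 - p ^ f + 1)) e)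
    (hz : ∀ r, Prim (p ^ f) 12 r → r ∣ Nat.card S) {w x : A} {t r : ℕ} (ht : Prim p (f * 6) t) (hw : orderOf w = t)
    (hr : Prim (p ^ f) 12 r) (hx : orderOf x = r) (hxS : x ∈ S) (hwx : Commute w x) : g = .te6 (p ^ f) := by
  have hpF := Fact.mk hp
  have hq2 : 2 ≤ p ^ f := hp.two_le.trans (Nat.le_self_pow (by omega) p)
  have hq1 : 1 ≤ p ^ f := by omega
  have ht6 : Prim (p ^ f) 6 t := prim_pow hf ht
  have htf : f * 6 < t := prim_lt ht (by omega)
  have htp := ht.prime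
  have hle : ∀ {a : ℕ}, 1 ≤ a → a ≤ f * 6 → ¬ t ∣ a := fun h1 h2 h3 => by
    have := Nat.le_of_dvd (by omega) h3
    omega
  have htph := not_dvd_ph hq1 ht6
  obtain ⟨s3, h3⟩ := exists_prim (q := p ^ f) (e := 3) hq2 (by norm_num) (by omega)
  obtain ⟨s4, h4⟩ := exists_prim (q := p ^ f) (e := 4) hq2 (by norm_num) (by omega)
  have hm3 := not_dvd_m hq1 h3 (Or.inl rfl)
  have hm4 := not_dvd_m hq1 h4 (Or.inr rfl)
  have hbr := hb r hr
  have hm12 : ((Ph 12 (p ^ f) : ℕ) : ℤ) = 1 - ((p ^ f : ℕ) : ℤ) ^ 2 + ((p ^ f : ℕ) : ℤ) ^ 4 := by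
    rw [cast_Ph12 _ hq1]; ring
  -- the kill of the groups whose order is prime to `t`
  have kw : ∀ {m' : ℕ}, ¬ t ∣ Nat.card (Cfsg.Out S) →
      (∀ z : S, orderOf z = r → Nat.card (centralizer ({z} : Set S)) ∣ m') → ¬ t ∣ m' → False :=
    fun h1 h2 h3 => kill_w hc htp hw hx hxS hwx h1 h2 h3
  have kc : ¬ t ∣ Nat.card (Cfsg.Out S) → ¬ t ∣ num g → False := fun h1 h2 => by
    refine kw (m' := Nat.card S) h1 (fun z _ => Subgroup.card_subgroup_dvd_card _) fun h5 => h2 ?_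
    rw [← hg.eq]
    exact h5.mul_left _
  rcases own hp hf hg.cond hch hg.eq hdvd hz with h | h | h | h | h | h | h | h | h | h | h
  · exact h
  · -- `L₂(q⁶)`
    exfalso
    subst h
    obtain ⟨F, _, _, hF, ⟨φ⟩⟩ := hg.real
    obtain ⟨z, hz⟩ := Cfsg.Agent.H360.Iso.exists_top (F := F) (n := 2) (by norm_num)
    have hcF : Nat.card F = (p ^ f) ^ 6 := by rw [Nat.card_eq_fintype_card, hF]
    rw [hcF, ← pow_mul] at hz
    have key : ∀ {e s : ℕ}, Prim (p ^ f) e s → e ∣ 12 → ¬ e ∣ 6 → s ∣ orderOf (φ.symm z) := by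
      intro e s hs h1 h2
      rw [MulEquiv.orderOf_eq]
      exact dvd_of_top hs.prime hz (hs.dvd h1) (fun h5 => hs.not_dvd_sub h2 (h5.trans (Nat.gcd_dvd_right _ _)))
        (hs.not_dvd_sub h2)
    exact kill_elt hbr (φ.symm z) (key hr (by norm_num) (by norm_num)) (key h4 (by norm_num) (by norm_num)) hm4
  · -- `L₃(q⁴)`
    exfalso
    subst h
    obtain ⟨F, _, _, hF, ⟨φ⟩⟩ := hg.real
    obtain ⟨z, hz⟩ := Cfsg.Agent.H360.Iso.exists_top (F := F) (n := 3) (by norm_num)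
    have hcF : Nat.card F = (p ^ f) ^ 4 := by rw [Nat.card_eq_fintype_card, hF]
    rw [hcF, ← pow_mul] at hz
    have key : ∀ {e s : ℕ}, Prim (p ^ f) e s → e ∣ 12 → ¬ e ∣ 4 → s ∣ orderOf (φ.symm z) := by
      intro e s hs h1 h2
      rw [MulEquiv.orderOf_eq]
      exact dvd_of_top hs.prime hz (hs.dvd h1) (fun h5 => hs.not_dvd_sub h2 (h5.trans (Nat.gcd_dvd_right _ _)))
        (hs.not_dvd_sub h2)
    exact kill_elt hbr (φ.symm z) (key hr (by norm_num) (by norm_num)) (key h3 (by norm_num) (by norm_num)) hm3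
  · -- `S₄(q³)`
    exfalso
    subst h
    obtain ⟨F, _, _, hF, ⟨φ⟩⟩ := hg.real
    have hcF : Nat.card F = (p ^ f) ^ 3 := by rw [Nat.card_eq_fintype_card, hF]
    have hne : r ≠ s4 := by
      rintro rfl
      exact absurd (Prim.unique hr h4) (by norm_num)
    obtain ⟨z, hz⟩ := Cfsg.Agent.H377.exists_psp_tor_minus (F := F) (m := 2) (N := r * s4) (by norm_num)
      (Nat.mul_pos hr.prime.pos h4.prime.pos) (Or.inl ⟨by
        rw [Nat.odd_iff, Nat.mul_mod, hr.odd (by norm_num), h4.odd (by norm_num)], by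
        rw [hcF, ← pow_mul]
        exact ((Nat.coprime_primes hr.prime h4.prime).2 hne).mul_dvd_of_dvd_of_dvd
          (hr.dvd_add (by norm_num) (by norm_num)) (h4.dvd_add (by norm_num) (by norm_num))⟩)
    have hz' : orderOf (φ.symm z) = r * s4 := by rw [MulEquiv.orderOf_eq, hz]
    exact kill_elt hbr (φ.symm z) (by rw [hz']; exact Dvd.intro _ rfl) (by rw [hz']; exact Dvd.intro_left _ rfl) hm4
  · -- `U₄(q³)`
    exfalso
    subst h
    obtain ⟨F, _, _, hF, ⟨φ⟩⟩ := hg.real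
    obtain ⟨z, hz⟩ := Cfsg.Agent.H360.Iso.exists_topU hF (n := 4) (by norm_num)
    have hph : Cfsg.Agent.H948.UProd.ph ((p ^ f) ^ 3) (4 - 1) = (p ^ f) ^ 12 - 1 := by
      rw [Cfsg.Agent.H948.UProd.ph, if_neg (by decide), ← pow_mul]
    rw [hph] at hz
    have key : ∀ {e s : ℕ}, Prim (p ^ f) e s → e ∣ 12 → ¬ e ∣ 2 * 3 → s ∣ orderOf (φ.symm z) := by
      intro e s hs h1 h2
      rw [MulEquiv.orderOf_eq]
      exact dvd_of_top hs.prime hz (hs.dvd h1) (fun h5 => hs.not_dvd_add h2 (h5.trans (Nat.gcd_dvd_right _ _)))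
        (hs.not_dvd_add h2)
    exact kill_elt hbr (φ.symm z) (key hr (by norm_num) (by norm_num)) (key h4 (by norm_num) (by norm_num)) hm4
  · -- `U₃(q²)`
    exfalso
    subst h
    obtain ⟨F, _, _, hF, ⟨φ⟩⟩ := hg.real
    have hsX : IsSimpleGroup (Cfsg.PSU 3 F ((p ^ f) ^ 2)) := φ.symm.isSimpleGroup
    have hnaX : ¬ IsMulCommutative (Cfsg.PSU 3 F ((p ^ f) ^ 2)) := fun h => hna ⟨⟨fun a b => φ.injective (by
      rw [map_mul, map_mul]; exact h.is_comm.comm _ _)⟩⟩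
    have hfX : Finite (Cfsg.PSU 3 F ((p ^ f) ^ 2)) := Finite.of_equiv _ φ.toEquiv
    have h1 := Cfsg.Agent.S0815.result (F := F) p (f * 2) (by omega) (q := (p ^ f) ^ 2) (by rw [pow_mul]) hF 3 le_rfl
      (fun h => by
        have h5 : 2 ^ 2 ≤ (p ^ f) ^ 2 := Nat.pow_le_pow_left hq2 2
        omega)
    have h2 := Cfsg.Agent.H934.OutB.card_out_of_aut hnaX h1
    rw [← Cfsg.Agent.H934.OutB.card_out_congr φ] at h2
    refine kc (fun h5 => ?_) fun h5 => ?_
    · rw [h2] at h5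
      rcases htp.dvd_mul.1 h5 with h6 | h6
      · exact hle (a := 3) (by norm_num) (by omega) (h6.trans (Nat.gcd_dvd_left _ _))
      · exact hle (a := 2 * (f * 2)) (by omega) (by omega) h6
    · exact not_dvd_psu3 hq1 ht6 h5
  · -- `G₂(q²)`
    exfalso
    subst h
    obtain ⟨F, _, _, hF, ⟨φ⟩⟩ := hg.real
    have hF' : Fintype.card F = p ^ (f * 2) := by rw [hF, pow_mul]
    have : CharP F p := charP_of_card_eq_prime_pow hF'
    have h1 := Cfsg.Agent.S2121.result (F := F) p (f * 2) hF' (by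
      rw [pow_mul]
      have h5 : 2 ^ 2 ≤ (p ^ f) ^ 2 := Nat.pow_le_pow_left hq2 2
      omega)
    rw [← Cfsg.Agent.H934.OutB.card_out_congr φ] at h1
    have hr6 : Prim ((p ^ f) ^ 2) 6 r := prim_sq hr
    have hb2 : Big S r (Ph 12 (p ^ f)) 6 := (big_G2_6 hF (by rw [hm12]; push_cast; ring) hr6).congr φ.symm
    refine kw (fun h5 => ?_) hb2.card htph
    rw [h1] at h5
    split_ifs at h5
    · exact hle (by omega) (by omega) h5
    · exact hle (by omega) (by omega) h5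
  · -- `F₄(q)`
    exfalso
    subst h
    obtain ⟨F, _, _, hF, ⟨φ⟩⟩ := hg.real
    have : CharP F p := charP_of_card_eq_prime_pow hF
    have h1 := Cfsg.Agent.S2122.result (F := F) p f hF
    rw [← Cfsg.Agent.H934.OutB.card_out_congr φ] at h1
    have hb2 : Big S r (Ph 12 (p ^ f)) 12 := (big_F4_12 hF hm12 hr).congr φ.symm
    refine kw (fun h5 => ?_) hb2.card htph
    rw [h1] at h5
    rcases htp.dvd_mul.1 h5 with h6 | h6
    · exact hle (a := 2) (by norm_num) (by omega) (h6.trans (Nat.gcd_dvd_left _ _))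
    · exact hle (by omega) (by omega) h6
  · -- `³D₄(q)`
    exfalso
    subst h
    obtain ⟨F, _, _, hF, ⟨φ⟩⟩ := hg.real
    have hF' : Fintype.card F = p ^ (3 * f) := by rw [hF, ← pow_mul, mul_comm]
    have : CharP F p := charP_of_card_eq_prime_pow hF'
    have h1 := Cfsg.Agent.S2129.result (K := F) p f hF' hf
    rw [← Cfsg.Agent.H934.OutB.card_out_congr φ] at h1
    have hqp : IsPrimePow (p ^ f) := hp.isPrimePow.pow (by omega)
    have hb2 : Big S r (Ph 12 (p ^ f)) 4 := (big_TD4_12 hqp hF hm12 hr).congr φ.symm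
    refine kw (fun h5 => ?_) hb2.card htph
    rw [h1] at h5
    exact hle (by omega) (by omega) h5
  · -- `Sz(q³)`
    exfalso
    subst h
    obtain ⟨F, _, _, m, hm, hF, hqm, ⟨φ⟩⟩ := hg.real
    rw [← pow_mul] at hqm
    obtain ⟨hp2, hfm⟩ := eq_of_pow hp Nat.prime_two (by omega) hqm
    have h1 := Cfsg.Agent.S2126.result (F := F) hm (by rw [hF, ← pow_mul, hqm])
    rw [← Cfsg.Agent.H934.OutB.card_out_congr φ] at h1
    refine kc (fun h5 => ?_) fun h5 => ?_
    · rw [h1, ← hfm] at h5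
      exact hle (by omega) (by omega) h5
    · exact not_dvd_sz hq1 ht6 h5
  · -- `²F₄(q)`
    exfalso
    subst h
    obtain ⟨F, _, _, m, hm, hF, hqm, ⟨φ⟩⟩ := hg.real
    obtain ⟨hp2, hfm⟩ := eq_of_pow hp Nat.prime_two (by omega) hqm
    have hF' : Fintype.card F = 2 ^ (2 * m + 1) := by rw [hF, hqm]
    have h1 := Cfsg.Agent.S2128.result (K := F) hm hF'
    rw [← Cfsg.Agent.H934.OutB.card_out_congr φ] at h1
    have hout : ¬ t ∣ Nat.card (Cfsg.Out S) := fun h5 => by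
      rw [h1, ← hfm] at h5
      exact hle (by omega) (by omega) h5
    have hx2 : 2 ≤ 2 ^ m := Nat.le_self_pow (by omega) 2
    have hmul : mP (2 ^ m) * mM (2 ^ m) = Ph 12 (p ^ f) := by
      have h5 := mP_mul_mM hx2
      have h6 : (2 * ((2 ^ m : ℕ) : ℤ) ^ 2) = ((p ^ f : ℕ) : ℤ) := by
        rw [hqm, ← q_TF]
        push_cast
        ring
      rw [h6, ← hm12] at h5
      exact_mod_cast h5
    have hrP : r ∣ Ph 12 (p ^ f) := by
      have h5 : (r : ℤ) ∣ ((Ph 12 (p ^ f) : ℕ) : ℤ) := by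
        rw [hm12]
        exact prim_dvd_12 hr
      exact Int.natCast_dvd_natCast.1 h5
    rw [← hmul] at hrP
    rcases hr.prime.dvd_mul.1 hrP with h5 | h5
    · have hb2 : Big S r (mP (2 ^ m)) 12 := (big_TF4_plus hF' hm hr.prime h5).congr φ.symm
      exact kw hout hb2.card fun h6 => htph (by rw [← hmul]; exact h6.mul_right _)
    · have hb2 : Big S r (mM (2 ^ m)) 12 := (big_TF4_minus hF' hm hr.prime h5).congr φ.symm
      exact kw hout hb2.card fun h6 => htph (by rw [← hmul]; exact h6.mul_left _)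

end Cfsg.Agent.H682.TE6
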