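import Cfsg.Agent.H290.Wei.CoreW
import Cfsg.Agent.H682.TE6.One
import Cfsg.Agent.H424.Spr.Core

/-!
# 3/2-generation: the general assembly for a torus with two coprime factors (helper682, S3938)

`s` generates a cyclic torus of `T`; `n * w₀ ∣ orderOf s`; the primes `r ∣ n` are big (`Big T r m e`), `w₀` is a prime.
`spr_core` : `Spr T` from: the normal `t`-subgroups of the overgroups `K` of `s` commute with `w`; a simple normal
subgroup of `K / O` forces `K = ⊤`.
-/

set_option autoImplicit false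
set_option linter.unusedSectionVars false

namespace Cfsg.Agent.H682.TE6

open Subgroup Cfsg.Agent.H56.Exc Cfsg.Agent.H363.Wei Cfsg.Agent.H290.Wei

universe u

section Gen

variable {K : Type u} [Group K] [Finite K] {n m e : ℕ}

theorem card_comap_mk (O : Subgroup K) [O.Normal] (N : Subgroup (K ⧸ O)) :
    Nat.card (N.comap (QuotientGroup.mk' O)) = Nat.card O * Nat.card N := by
  have h5 := Subgroup.card_mul_index (N.comap (QuotientGroup.mk' O))
  rw [Subgroup.index_comap_of_surjective _ (QuotientGroup.mk'_surjective O)] at h5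
  have h6 := Subgroup.card_mul_index N
  have h7 := Subgroup.card_eq_card_quotient_mul_card_subgroup O
  have h8 : 0 < N.index := Nat.pos_of_ne_zero Subgroup.index_ne_zero_of_finite
  apply Nat.eq_of_mul_eq_mul_right h8
  rw [h5, mul_assoc, h6, h7, mul_comm]

/-- **Frattini.** -/
theorem normalizer_sup_of_normal {O : Subgroup K} [O.Normal] {x : K} {r : ℕ} (hr : r.Prime) (hx : orderOf x = r)
    (hO : ¬ r ∣ Nat.card O) (hn : (zpowers (QuotientGroup.mk' O x)).Normal) :
    normalizer (zpowers x : Set K) ⊔ (O ⊔ zpowers x) = ⊤ := by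
  have := Fact.mk hr
  set H := (zpowers (QuotientGroup.mk' O x)).comap (QuotientGroup.mk' O) with hH
  have hHn : H.Normal := hn.comap _
  have hOH : H ≤ O ⊔ zpowers x := by
    rintro a ⟨k, hk⟩
    have h1 : QuotientGroup.mk' O (x ^ k) = QuotientGroup.mk' O a := by
      rw [map_zpow]; exact hk
    have h2 : (x ^ k)⁻¹ * a ∈ O := QuotientGroup.eq.1 h1
    have h3 : a = x ^ k * ((x ^ k)⁻¹ * a) := by group
    rw [h3]
    exact mul_mem ((le_sup_right : zpowers x ≤ O ⊔ zpowers x) ⟨k, rfl⟩) ((le_sup_left : O ≤ O ⊔ zpowers x) h2)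
  have hxH : zpowers x ≤ H := by
    rw [zpowers_le]
    exact mem_zpowers (QuotientGroup.mk' O x)
  have hcH : Nat.card H = Nat.card O * orderOf (QuotientGroup.mk' O x) := by
    rw [hH, card_comap_mk, Nat.card_zpowers]
  have hox : orderOf (QuotientGroup.mk' O x) ∣ r := hx ▸ orderOf_map_dvd _ x
  have hcP : Nat.card ((zpowers x).subgroupOf H) = r := by
    rw [Nat.card_congr (Subgroup.subgroupOfEquivOfLe hxH).toEquiv, Nat.card_zpowers, hx]
  have hP1 : IsPGroup r ((zpowers x).subgroupOf H) := IsPGroup.of_card (n := 1) (by rw [hcP, pow_one])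
  have hP2 : ¬ r ∣ ((zpowers x).subgroupOf H).index := by
    intro h
    have h1 := Subgroup.card_mul_index ((zpowers x).subgroupOf H)
    rw [hcP, hcH] at h1
    have h2 : ((zpowers x).subgroupOf H).index ∣ Nat.card O := by
      have h3 : r * ((zpowers x).subgroupOf H).index ∣ r * Nat.card O := by
        rw [h1, mul_comm r]
        exact mul_dvd_mul_left _ hox
      exact Nat.dvd_of_mul_dvd_mul_left hr.pos h3
    exact hO (h.trans h2)
  have h := Sylow.normalizer_sup_eq_top (hP1.toSylow hP2)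
  have hmap : (((hP1.toSylow hP2 : Sylow r H) : Subgroup H).map H.subtype) = zpowers x := by
    show ((zpowers x).subgroupOf H).map H.subtype = zpowers x
    rw [Subgroup.map_subgroupOf_eq_of_le hxH]
  rw [hmap] at h
  rw [eq_top_iff, ← h]
  exact sup_le_sup le_rfl hOH

theorem normal_zpowers_of_mem {G : Type*} [Group G] {x y : G} (hx : x ∈ zpowers y) (hn : (zpowers y).Normal) :
    (zpowers x).Normal := by
  refine ⟨?_⟩
  rintro _ ⟨i, rfl⟩ g
  obtain ⟨k, rfl⟩ := hx
  obtain ⟨j, hj⟩ := hn.conj_mem y (mem_zpowers y) g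
  have hj' : y ^ j = g * y * g⁻¹ := hj
  refine ⟨j * i, ?_⟩
  show (y ^ k) ^ (j * i) = g * (y ^ k) ^ i * g⁻¹
  rw [← zpow_mul, ← zpow_mul, ← conj_zpow, ← hj', ← zpow_mul]
  congr 1
  ring

/-- **`⟨w⟩` is normal, if `⟨y⟩ O / O` is.** -/
theorem normal_w (hbig : ∀ r, r.Prime → r ∣ n → Big K r m e) (hn : 1 < n) {y w : K} (hy : orderOf y = n) (hyw : Commute y w) {O : Subgroup K} [O.Normal] (hO : ∀ r, r.Prime → r ∣ n → ¬ r ∣ Nat.card O)
    (hOw : ∀ u ∈ O, Commute u w) (hN : (zpowers (QuotientGroup.mk' O y)).Normal) : (zpowers w).Normal := by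
  obtain ⟨r, hr, hrn⟩ := Nat.exists_prime_and_dvd hn.ne'
  obtain ⟨x, hx, hxr⟩ := exists_prime_pow hr (hy ▸ hrn : r ∣ orderOf y)
  have hxn : (zpowers (QuotientGroup.mk' O x)).Normal := by
    refine normal_zpowers_of_mem ?_ hN
    obtain ⟨k, rfl⟩ := hx
    exact ⟨k, by simp⟩
  have hF := normalizer_sup_of_normal hr hxr (hO r hr hrn) hxn
  have hxw : Commute x w := by
    obtain ⟨k, rfl⟩ := hx
    exact hyw.zpow_left k
  rw [← Subgroup.normalizer_eq_top_iff, eq_top_iff, ← hF]
  have hcen : ∀ u : K, Commute u w → u ∈ normalizer (zpowers w : Set K) := by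
    intro u hu
    apply mem_norm_zpowers
    rw [hu.eq, mul_inv_cancel_right]
    exact mem_zpowers w
  refine sup_le ?_ (sup_le (fun u hu => hcen u (hOw u hu)) ?_)
  · intro g hg
    apply mem_norm_zpowers
    have h1 : g * x * g⁻¹ ∈ zpowers x := (Subgroup.mem_normalizer_iff.1 hg x).1 (mem_zpowers x)
    have h2 : x ∈ zpowers (g * x * g⁻¹) := by
      refine mem_zpowers_of_cyclic ((hbig r hr hrn).cyc (g * x * g⁻¹) ?_) ?_ ?_ ?_
      · rw [← hxr, ← MulAut.conj_apply]; exact (MulAut.conj g).orderOf_eq x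
      · rw [mem_centralizer_singleton_iff]
      · rw [mem_centralizer_singleton_iff]
        obtain ⟨k, hk⟩ := h1
        rw [← hk]
        exact ((Commute.refl x).zpow_right k).eq
      · rw [← MulAut.conj_apply, (MulAut.conj g).orderOf_eq x]
    refine mem_zpowers_of_cyclic ((hbig r hr hrn).cyc x hxr) ?_ ?_ ?_
    · rw [mem_centralizer_singleton_iff]; exact hxw.symm.eq
    · rw [mem_centralizer_singleton_iff]
      obtain ⟨k, hk⟩ := h2
      have h3 : Commute (g * w * g⁻¹) (g * x * g⁻¹) := by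
        show (g * w * g⁻¹) * (g * x * g⁻¹) = (g * x * g⁻¹) * (g * w * g⁻¹)
        calc _ = g * (w * x) * g⁻¹ := by group
          _ = g * (x * w) * g⁻¹ := by rw [hxw.symm.eq]
          _ = _ := by group
      have h4 := h3.zpow_right k
      have hk' : (g * x * g⁻¹) ^ k = x := hk
      rw [hk'] at h4
      exact h4.eq
    · rw [← MulAut.conj_apply, (MulAut.conj g).orderOf_eq w]
  · rw [zpowers_le]
    exact hcen x hxw

end Gen

section Main

variable {T : Type u} [Group T] [Finite T] {n m e : ℕ}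

theorem not_top [IsSimpleGroup T] (hna : ∃ x y : T, x * y ≠ y * x) {w : T} (hw : w ≠ 1) :
    normalizer (zpowers w : Set T) ≠ ⊤ := by
  intro h
  rw [Subgroup.normalizer_eq_top_iff] at h
  rcases h.eq_bot_or_eq_top with h1 | h1
  · rw [Subgroup.zpowers_eq_bot] at h1
    exact hw h1
  · obtain ⟨x, y, hxy⟩ := hna
    apply hxy
    have hx : x ∈ zpowers w := by rw [h1]; trivial
    have hy : y ∈ zpowers w := by rw [h1]; trivial
    obtain ⟨i, rfl⟩ := hx
    obtain ⟨j, rfl⟩ := hy
    exact ((Commute.refl w).zpow_zpow i j).eq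

/-- **The general assembly.** -/
theorem spr_core [IsSimpleGroup T] (hna : ∃ x y : T, x * y ≠ y * x) (hE : CycFixSolv.{u}) (hn : 1 < n)
    (hbig : ∀ r, r.Prime → r ∣ n → Big T r m e) {s : T} {w₀ : ℕ} (hw₀ : w₀.Prime) (hns : n ∣ orderOf s)
    (hws : w₀ ∣ orderOf s)
    (hsm : ∀ (X : Type u) [Group X] [Finite X] (x : X), (∀ r, r.Prime → r ∣ n → Big X r m e) → orderOf x = n →
      Nat.card X ∣ e * m → (zpowers x).Normal)
    (hR : ∀ (K : Subgroup T) (y w : K), orderOf y = n → orderOf w = w₀ → Commute y w → ∀ (t : ℕ) (R : Subgroup K),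
      t.Prime → R.Normal → IsPGroup t R → ¬ t ∣ n → ∀ u ∈ R, Commute u w ∧ (t = w₀ → Commute u y))
    (hS : ∀ (K : Subgroup T) (y w : K) (O : Subgroup K) (_ : O.Normal), orderOf y = n → orderOf w = w₀ →
      Commute y w → IsCyclic O → (∀ u ∈ O, Commute u y) → (∀ r, r.Prime → r ∣ Nat.card O → ¬ r ∣ n ∧ r ∣ m) →
      orderOf (QuotientGroup.mk' O y) = n → orderOf (QuotientGroup.mk' O w) = w₀ →
      ∀ S : Subgroup (K ⧸ O), S.Normal → IsSimpleGroup S → ¬ IsMulCommutative S →
        centralizer (S : Set (K ⧸ O)) = ⊥ → QuotientGroup.mk' O y ∈ S →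
        (∀ r, r.Prime → r ∣ n → Big S r m e ∧ ¬ r ∣ S.index) → S.index ∣ e * m → K = ⊤) :
    Cfsg.Agent.H424.Spr.Spr T := by
  have hNpos : 0 < orderOf s := orderOf_pos s
  set w' : T := s ^ (orderOf s / w₀) with hw'
  have hpow : ∀ {G : Type u} [Group G] [Finite G] (z : G) (k : ℕ), k ∣ orderOf z →
      orderOf (z ^ (orderOf z / k)) = k := by
    intro G _ _ z k hk
    have h0 : 0 < orderOf z := orderOf_pos z
    rw [orderOf_pow_of_dvd (Nat.div_pos (Nat.le_of_dvd h0 hk) (Nat.pos_of_dvd_of_pos hk h0)).ne' (Nat.div_dvd_of_dvd hk)]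
    exact Nat.div_div_self hk h0.ne'
  have hw'o : orderOf w' = w₀ := hpow s w₀ hws
  have hw'1 : w' ≠ 1 := by
    intro h
    rw [h, orderOf_one] at hw'o
    exact hw₀.one_lt.ne hw'o
  refine Cfsg.Agent.H424.Spr.spr_of_one hna (s := s) (not_top hna hw'1) fun K hsK hKt => ?_
  set z : K := ⟨s, hsK⟩ with hz
  have hzo : orderOf z = orderOf s := Subgroup.orderOf_mk s hsK
  set y : K := z ^ (orderOf z / n) with hy'
  set w : K := z ^ (orderOf z / w₀) with hw
  have hy : orderOf y = n := hpow z n (hzo ▸ hns)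
  have hwo : orderOf w = w₀ := hpow z w₀ (hzo ▸ hws)
  have hyw : Commute y w := (Commute.refl z).pow_pow _ _
  have hww' : (w : T) = w' := by
    rw [hw, hw', hzo]
    rfl
  -- it is enough that `⟨w⟩` is normal
  suffices hnor : (zpowers w).Normal by
    have h1 := Subgroup.le_normalizer_map (H := zpowers w) K.subtype
    rw [Subgroup.normalizer_eq_top_iff.2 hnor, MonoidHom.map_zpowers, ← MonoidHom.range_eq_map,
      Subgroup.range_subtype] at h1
    have h2 : K.subtype w = w' := hww'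
    rwa [h2] at h1
  have hbigK : ∀ r, r.Prime → r ∣ n → Big K r m e := fun r hr hrn => (hbig r hr hrn).subgroup K
  obtain ⟨O, hO, h1, h2, hord, hb, hcase⟩ := one_torus_core' hE hn hbigK hsm hy
  obtain ⟨r₁, hr₁, hr₁n⟩ := Nat.exists_prime_and_dvd hn.ne'
  obtain ⟨x, hx, hxr⟩ := exists_prime_pow hr₁ (hy ▸ hr₁n : r₁ ∣ orderOf y)
  have hxK : r₁ ∣ Nat.card K := hr₁n.trans (hy ▸ orderOf_dvd_natCard y)
  have hOs : Group.IsSolvable O := isSolvable_of_big hE (hbigK r₁ hr₁ hr₁n) hxK (h1 r₁ hr₁ hr₁n)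
  have hcyc : IsCyclic ↥(centralizer {x}) := (hbigK r₁ hr₁ hr₁n).cyc x hxr
  have hmemC : ∀ {u : K}, Commute u y → u ∈ centralizer {x} := by
    intro u hu
    rw [mem_centralizer_singleton_iff]
    obtain ⟨k, rfl⟩ := hx
    exact (hu.zpow_right k).eq
  have hR' : ∀ (t : ℕ) (R : Subgroup K), t.Prime → R.Normal → IsPGroup t R → R ≤ O →
      ∀ u ∈ R, Commute u w ∧ (t = w₀ → Commute u y) := by
    intro t R ht hRn hRt hRO u hu
    by_cases htn : t ∣ n
    · have := Fact.mk ht
      obtain ⟨k, hk⟩ := IsPGroup.iff_card.1 hRt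
      have hk0 : k = 0 := by
        by_contra hk0
        apply h1 t ht htn
        exact ((dvd_pow_self t hk0).trans (hk ▸ dvd_rfl)).trans (Subgroup.card_dvd_of_le hRO)
      rw [hk0, pow_zero, Subgroup.card_eq_one] at hk
      rw [hk, Subgroup.mem_bot] at hu
      rw [hu]
      exact ⟨Commute.one_left _, fun _ => Commute.one_left _⟩
    · exact hR K y w hy hwo hyw t R ht hRn hRt htn u hu
  have hΩ : ∀ R : Subgroup K, R.Normal → IsPGroup w₀ R → R ≤ O → ∀ u ∈ R, u ^ w₀ = 1 → u ∈ zpowers w := by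
    intro R hRn hRw hRO u hu hu1
    have h3 := (hR' w₀ R hw₀ hRn hRw hRO u hu).2 rfl
    exact mem_zpowers_of_cyclic hcyc (hmemC hyw.symm) (hmemC h3) (by rw [hwo]; exact orderOf_dvd_of_pow_eq_one hu1)
  rcases core_w hwo hw₀ hOs (fun t R ht hRn hRt hRO u hu => (hR' t R ht hRn hRt hRO u hu).1) hΩ with h3 | ⟨hwO, hOw⟩
  · exact h3.2
  rcases hcase with hN | ⟨S, hSn, hSs, hSna, hSc, hyS, hSb, hSi⟩
  · exact normal_w hbigK hn hy hyw h1 hOw hN
  · exfalso
    apply hKt
    have hcop : (Nat.card O).Coprime n := by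
      rw [Nat.coprime_iff_gcd_eq_one]
      by_contra h
      obtain ⟨r, hr, hrd⟩ := Nat.exists_prime_and_dvd h
      exact h1 r hr (hrd.trans (Nat.gcd_dvd_right _ _)) (hrd.trans (Nat.gcd_dvd_left _ _))
    have hOy : ∀ u ∈ O, Commute u y := commute_of_simple hy hcop hwO hOw hSc hyS
    have hOC : O ≤ centralizer {x} := fun u hu => hmemC (hOy u hu)
    have hOcyc : IsCyclic O := by
      have := hcyc
      exact isCyclic_of_injective (Subgroup.inclusion hOC) (Subgroup.inclusion_injective hOC)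
    refine hS K y w O hO hy hwo hyw hOcyc hOy (fun r hr hrO => ⟨fun h => h1 r hr h hrO, ?_⟩) hord ?_ S hSn hSs hSna hSc
      hyS hSb hSi
    · exact (hrO.trans (Subgroup.card_dvd_of_le hOC)).trans ((hbigK r₁ hr₁ hr₁n).card x hxr)
    · rcases (Nat.dvd_prime hw₀).1 (hwo ▸ orderOf_map_dvd (QuotientGroup.mk' O) w) with h | h
      · rw [orderOf_eq_one_iff] at h
        exact absurd ((QuotientGroup.eq_one_iff w).1 h) hwO
      · exact h

end Main

end Cfsg.Agent.H682.TE6
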