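import Cfsg.Agent.H190.Cov.K128
import Cfsg.Agent.H765.KE.Model
import Cfsg.Agent.H795.Tw
import Cfsg.Agent.S1093

/-!
# The torus of class 12 of `²E₆(q)` (helper682, S3938)

* `k0 q = (q² - q + 1) / (3, q + 1)`, prime to `3`;
* `big0` : the primitive primes of class 12 are big with the number `Ph 12 q * k0 q`;
* `sylow_te6` : the Sylow `t`-subgroups are abelian, `7 ≤ t`, `t ∤ q`.
-/

set_option autoImplicit false

namespace Cfsg.Agent.H682.TE6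

open Cfsg Cfsg.Agent.OrdDiv Cfsg.Agent.H436 Cfsg.Agent.H56.Exc Cfsg.Agent.H563.KG Cfsg.Agent.H190.Odd

/-- `(q² - q + 1) / (3, q + 1)` -/
def k0 (q : ℕ) : ℕ := (q ^ 2 - q + 1) / Nat.gcd 3 (q + 1)

section

variable {q : ℕ}

theorem le_sq (q : ℕ) : q ≤ q ^ 2 := Nat.le_self_pow (by norm_num) _

theorem gcd_eq (q : ℕ) : (Nat.gcd 3 (q + 1) = 3 ∧ 3 ∣ q + 1) ∨ (Nat.gcd 3 (q + 1) = 1 ∧ ¬ 3 ∣ q + 1) := by
  by_cases h : 3 ∣ q + 1
  · exact Or.inl ⟨Nat.gcd_eq_left h, h⟩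
  · exact Or.inr ⟨(Nat.Prime.coprime_iff_not_dvd Nat.prime_three).2 h, h⟩

theorem cast_k (q : ℕ) (R : Type*) [CommRing R] : ((q ^ 2 - q + 1 : ℕ) : R) = (q : R) ^ 2 - q + 1 := by
  rw [Nat.cast_add, Nat.cast_sub (le_sq q)]
  push_cast
  ring

theorem three_dvd_iff (q : ℕ) : 3 ∣ q ^ 2 - q + 1 ↔ 3 ∣ q + 1 := by
  rw [← ZMod.natCast_eq_zero_iff, ← ZMod.natCast_eq_zero_iff, cast_k]
  push_cast
  generalize (q : ZMod 3) = x
  revert x
  decide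

theorem nine_not_dvd (q : ℕ) : ¬ 9 ∣ q ^ 2 - q + 1 := by
  rw [← ZMod.natCast_eq_zero_iff, cast_k]
  generalize (q : ZMod 9) = x
  revert x
  decide

theorem k0_mul (q : ℕ) : Nat.gcd 3 (q + 1) * k0 q = q ^ 2 - q + 1 := by
  apply Nat.mul_div_cancel'
  rcases gcd_eq q with ⟨h1, h2⟩ | ⟨h1, -⟩
  · rw [h1, three_dvd_iff]
    exact h2
  · rw [h1]
    exact one_dvd _

theorem k0_dvd (q : ℕ) : k0 q ∣ q ^ 2 - q + 1 := Dvd.intro_left _ (k0_mul q)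

theorem not_three_dvd_k0 (q : ℕ) : ¬ 3 ∣ k0 q := by
  intro h
  rcases gcd_eq q with ⟨h1, h2⟩ | ⟨h1, h2⟩
  · apply nine_not_dvd q
    rw [← k0_mul q, h1]
    exact mul_dvd_mul_left 3 h
  · exact h2 ((three_dvd_iff q).1 (h.trans (k0_dvd q)))

theorem not_two_dvd_k0 (q : ℕ) : ¬ 2 ∣ k0 q := by
  intro h
  have h1 := h.trans (k0_dvd q)
  rw [← ZMod.natCast_eq_zero_iff, cast_k] at h1
  generalize (q : ZMod 2) = x at h1
  revert x
  decide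

theorem not_five_dvd_k0 (q : ℕ) : ¬ 5 ∣ k0 q := by
  intro h
  have h1 := h.trans (k0_dvd q)
  rw [← ZMod.natCast_eq_zero_iff, cast_k] at h1
  generalize (q : ZMod 5) = x at h1
  revert x
  decide

theorem seven_le {t : ℕ} (ht : t.Prime) (h : t ∣ k0 q) : 7 ≤ t := by
  by_contra hcon
  have h2 := ht.two_le
  have h3 : t = 2 ∨ t = 3 ∨ t = 4 ∨ t = 5 ∨ t = 6 := by omega
  rcases h3 with rfl | rfl | rfl | rfl | rfl
  · exact not_two_dvd_k0 q h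
  · exact not_three_dvd_k0 q h
  · norm_num at ht
  · exact not_five_dvd_k0 q h
  · norm_num at ht

theorem ph_pos (_ : 1 ≤ q) : 0 < Ph 12 q := by
  simp only [Ph]
  omega

theorem k0_pos (q : ℕ) : 0 < k0 q := Nat.pos_of_dvd_of_pos (k0_dvd q) (by omega)

/-- `Φ₁₂(q)` is prime to `k0 q` -/
theorem coprime_ph_k0 (hq : 1 ≤ q) : (Ph 12 q).Coprime (k0 q) := by
  rw [Nat.coprime_iff_gcd_eq_one]
  by_contra h
  obtain ⟨t, ht, htd⟩ := Nat.exists_prime_and_dvd h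
  have h1 := htd.trans (Nat.gcd_dvd_left _ _)
  have h2 := (htd.trans (Nat.gcd_dvd_right _ _)).trans (k0_dvd q)
  rw [← ncl12_eq] at h1
  have h3 := prim_of_dvd c12 hq ht h1
  have h4 : t ∣ q ^ 3 + 1 := by
    have e1 : q ^ 3 + 1 = (q + 1) * (q ^ 2 - q + 1) := by
      have := le_sq q
      zify [this]
      ring
    rw [e1]
    exact h2.mul_left _
  exact h3.not_dvd_add (by norm_num) h4

theorem not_dvd_ph_of {t : ℕ} (ht : t.Prime) (hq : 1 ≤ q) (h : t ∣ k0 q) : ¬ t ∣ Ph 12 q := fun h1 => by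
  have h2 := Nat.dvd_gcd h1 h
  rw [coprime_ph_k0 hq, Nat.dvd_one] at h2
  exact ht.one_lt.ne' h2

/-- primes of `Φ₁₂(q)` -/
theorem prim_of_ph {r : ℕ} (hq : 1 ≤ q) (hr : r.Prime) (h : r ∣ Ph 12 q) : Prim q 12 r := by
  rw [← ncl12_eq] at h
  exact prim_of_dvd c12 hq hr h

theorem dvd_ph {r : ℕ} (hq : 1 ≤ q) (hr : Prim q 12 r) : r ∣ Ph 12 q := by
  have h5 : (r : ℤ) ∣ ((Ph 12 q : ℕ) : ℤ) := by
    rw [cast_Ph12 _ hq]
    have h := prim_dvd_12 hr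
    rwa [show (q : ℤ) ^ 4 - (q : ℤ) ^ 2 + 1 = 1 - (q : ℤ) ^ 2 + (q : ℤ) ^ 4 by ring]
  exact Int.natCast_dvd_natCast.1 h5

theorem dvd_k0 {w : ℕ} (hw : Prim q 6 w) (h7 : 7 ≤ w) : w ∣ k0 q := by
  have h1 : w ∣ q ^ 2 - q + 1 := by
    have h5 : (w : ℤ) ∣ ((q ^ 2 - q + 1 : ℕ) : ℤ) := by
      rw [cast_k]
      have h := prim_dvd_6 hw
      rwa [show (q : ℤ) ^ 2 - (q : ℤ) + 1 = 1 - (q : ℤ) + (q : ℤ) ^ 2 by ring]
    exact Int.natCast_dvd_natCast.1 h5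
  rw [← k0_mul q] at h1
  rcases hw.prime.dvd_mul.1 h1 with h2 | h2
  · exfalso
    have := Nat.le_of_dvd (by norm_num) (h2.trans (Nat.gcd_dvd_left _ _))
    omega
  · exact h2

end

section

variable {F : Type} [Field F] [Fintype F] {q : ℕ}

/-- the primitive primes of class 12 -/
theorem big0 (hq : IsPrimePow q) (hK : Fintype.card F = q ^ 2) {r : ℕ} (hr : Prim q 12 r) :
    Big ↥(Lie.twistedE6 F q) r (Ph 12 q * k0 q) 12 := by
  have hq1 : 1 ≤ q := hq.one_lt.le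
  have hm12 : ((Ph 12 q * (q ^ 2 - q + 1) : ℕ) : ℤ) =
      (1 - (q : ℤ) ^ 2 + (q : ℤ) ^ 4) * (1 - (q : ℤ) + (q : ℤ) ^ 2) := by
    rw [Nat.cast_mul, cast_Ph12 _ hq1, cast_k]
    ring
  have hb := big_TE6_12 hq hK hm12 hr
  refine ⟨hb.prime, hb.cyc, fun x hx => ?_, hb.aut, hb.ndvd⟩
  rcases gcd_eq q with ⟨h1, h2⟩ | ⟨h1, -⟩
  · have h3 := (exact_te6_12 hq hK h2 hr hx).1
    have h4 : (q ^ 4 - q ^ 2 + 1) * (q ^ 2 - q + 1) = 3 * (Ph 12 q * k0 q) := by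
      rw [← k0_mul q, h1]
      show (q ^ 4 - q ^ 2 + 1) * (3 * k0 q) = 3 * ((q ^ 4 - q ^ 2 + 1) * k0 q)
      ring
    rw [h4] at h3
    exact Nat.dvd_of_mul_dvd_mul_left (by norm_num) h3
  · have h3 := hb.card x hx
    rwa [← k0_mul q, h1, one_mul] at h3

/-- **The torus.** -/
theorem exists_s (hq : IsPrimePow q) (hK : Fintype.card F = q ^ 2) :
    ∃ s : ↥(Lie.twistedE6 F q), Ph 12 q * k0 q ∣ orderOf s := by
  have hq2 : 2 ≤ q := hq.two_le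
  have hq1 : 1 ≤ q := by omega
  have hfin : Finite ↥(Lie.twistedE6 F q) := inferInstance
  have hm12 : ((Ph 12 q * (q ^ 2 - q + 1) : ℕ) : ℤ) =
      (1 - (q : ℤ) ^ 2 + (q : ℤ) ^ 4) * (1 - (q : ℤ) + (q : ℤ) ^ 2) := by
    rw [Nat.cast_mul, cast_Ph12 _ hq1, cast_k]
    ring
  obtain ⟨r, hr⟩ := exists_prim hq2 (show 3 ≤ 12 by norm_num) (by norm_num)
  obtain ⟨T12, c12', -, m12, -, -⟩ := Cfsg.Agent.H129.CycCard.card_tE6_12 hq hK hm12 hr.prime (prim_dvd_12 hr)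
  obtain ⟨s, hs⟩ := c12'.exists_generator
  refine ⟨s, ?_⟩
  have h1 : orderOf (s : ↥(Lie.twistedE6 F q)) = Nat.card ↥T12 := by
    rw [Subgroup.orderOf_coe]
    exact orderOf_eq_card_of_forall_mem_zpowers hs
  rw [h1]
  have h2 : Nat.gcd 3 (q + 1) * (Ph 12 q * k0 q) ∣ Nat.gcd 3 (q + 1) * Nat.card ↥T12 := by
    have e1 : Nat.gcd 3 (q + 1) * (Ph 12 q * k0 q) = Ph 12 q * (q ^ 2 - q + 1) := by
      rw [← k0_mul q]
      ring
    rw [e1]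
    exact m12
  exact Nat.dvd_of_mul_dvd_mul_left (Nat.gcd_pos_of_pos_left _ (by norm_num)) h2

open Cfsg.Agent.H765.KE Cfsg.Agent.H795.Tw Cfsg.Agent.H720.TwFr in
/-- **The Sylow `t`-subgroups are abelian.** -/
theorem sylow_te6 (hq : IsPrimePow q) (hK : Fintype.card F = q ^ 2) {t : ℕ} [ht : Fact t.Prime] (h7 : 7 ≤ t)
    (htq : ¬ t ∣ q) (P : Sylow t ↥(Lie.twistedE6 F q)) : IsMulCommutative (P : Subgroup ↥(Lie.twistedE6 F q)) := by
  have hfin : Finite ↥(Lie.twistedE6 F q) := inferInstance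
  obtain ⟨r, n, hr, hrF, hrk, hn0, hn, hk⟩ := exists_closure_q two_ne_zero hq hK
  have htr : t ≠ r := by
    rintro rfl
    apply htq
    rw [hn]
    exact dvd_pow_self _ hn0.ne'
  have h := setup_six (algebraMap F (AlgebraicClosure F)) r hk hn0 hn hK (p := t) (by omega)
  refine sylow_comm hp6 hk htr ?_ h.inj P
  have h0 : Nat.card CoxeterMatrix.E₆.Group = 51840 :=
    Cfsg.Agent.S1093.result (⟨6, CoxeterMatrix.E₆⟩, 51840) (by simp)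
  rw [h0]
  intro h1
  have h2 : t ∣ 30 := ht.out.dvd_of_dvd_pow (h1.trans (by decide : 51840 ∣ 30 ^ 7))
  have h3 := Nat.le_of_dvd (by norm_num) h2
  have h4 := ht.out
  interval_cases t <;> first | exact absurd h2 (by decide) | exact absurd h4 (by norm_num)

end

end Cfsg.Agent.H682.TE6
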