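import Cfsg.Agent.H682.TE6.One
import Cfsg.Agent.H682.TE6.Comm
import Cfsg.Agent.H682.TE6.Tor

/-!
# Normal `t`-subgroups of the overgroups of the torus of class 12 of `²E₆(q)` (helper682, S3938)

* `commute_y` : they commute with the element `y` of order `Φ₁₂(q)`, unless `q = 3`, `t = 2`.
-/

set_option autoImplicit false

namespace Cfsg.Agent.H682.TE6

open Subgroup Cfsg Cfsg.Agent.OrdDiv Cfsg.Agent.H436 Cfsg.Agent.H56.Exc Cfsg.Agent.H563.KG Cfsg.Agent.H190.Odd
  Cfsg.Agent.H190.Cov Cfsg.Agent.H325.Loc Cfsg.Agent.H325.IsoExc Cfsg.Agent.H290.ElReg Cfsg.Agent.H290.ElTab Cfsg.Agent.H902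

theorem ph3 : Ph 12 3 = 73 := by decide +kernel

theorem hN_of {K : Type*} [Group K] [Finite K] {q : ℕ} (hd : Nat.card K ∣ OL .TE6 q) (hq3 : 3 ≤ q) {t : ℕ}
    (ht : t.Prime) (htq : ¬ t ∣ q) (htn : ¬ t ∣ Ph 12 q) (h2 : ¬ (q = 3 ∧ t = 2)) :
    Fintype.card (Fin 78) < Ph 12 q ∨
      ((Ph 12 q).Prime ∧ ∀ k, 0 < k → t ^ k ∣ Nat.card K → ¬ Ph 12 q ∣ t ^ k - 1) := by
  rcases eq_or_lt_of_le hq3 with rfl | hq4
  · right
    rw [ph3] at htn ⊢
    refine ⟨by norm_num, fun k hk hkK => ?_⟩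
    have h6 : t ∣ OL .TE6 3 := (dvd_pow_self t hk.ne').trans (hkK.trans hd)
    rw [ft3_eq] at h6
    obtain ⟨y, hy, hty⟩ := prime_mem ht ft3 ft3_prime h6
    simp only [ft3, List.mem_cons, List.not_mem_nil, or_false] at hy
    have key : ∀ K', ¬ t ^ (K' + 1) ∣ OL .TE6 3 → (∀ k ≤ K', 0 < k → ¬ 73 ∣ t ^ k - 1) → ¬ 73 ∣ t ^ k - 1 :=
      fun K' h1 h2 => h2 k (pow_bound h1 (hkK.trans hd)) hk
    rcases hy with rfl | rfl | rfl | rfl | rfl | rfl | rfl | rfl | rfl | rfl <;> simp only at hty <;> subst hty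
    · exact absurd ⟨rfl, rfl⟩ h2
    · exact absurd dvd_rfl htq
    · exact key 2 (by decide +kernel) fun k hk hk0 => by interval_cases k <;> norm_num
    · exact key 3 (by decide +kernel) fun k hk hk0 => by interval_cases k <;> norm_num
    · exact key 2 (by decide +kernel) fun k hk hk0 => by interval_cases k <;> norm_num
    · exact key 1 (by decide +kernel) fun k hk hk0 => by interval_cases k <;> norm_num
    · exact key 1 (by decide +kernel) fun k hk hk0 => by interval_cases k <;> norm_num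
    · exact key 1 (by decide +kernel) fun k hk hk0 => by interval_cases k <;> norm_num
    · exact key 1 (by decide +kernel) fun k hk hk0 => by interval_cases k <;> norm_num
    · exact absurd dvd_rfl htn
  · left
    rw [← ncl12_eq, Fintype.card_fin]
    exact gt12 hq4

section

variable {F : Type} [Field F] [Fintype F] {p f : ℕ}

/-- **Normal `t`-subgroups.** -/
theorem commute_y (hp : p.Prime) (hf : 1 ≤ f) (hK : Fintype.card F = (p ^ f) ^ 2) (hq3 : 3 ≤ p ^ f)
    (hdT : Nat.card ↥(Lie.twistedE6 F (p ^ f)) ∣ OL .TE6 (p ^ f))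
    {K : Subgroup ↥(Lie.twistedE6 F (p ^ f))} {y : K} (hy : orderOf y = Ph 12 (p ^ f)) {t : ℕ} (ht : t.Prime)
    {R : Subgroup K} [hRn : R.Normal] (hRt : IsPGroup t R) (htn : ¬ t ∣ Ph 12 (p ^ f))
    (h2 : ¬ (p ^ f = 3 ∧ t = 2)) : ∀ u ∈ R, Commute u y := by
  have hpF := Fact.mk hp
  have hfin : Finite ↥(Lie.twistedE6 F (p ^ f)) := inferInstance
  have hK' : Fintype.card F = p ^ (f * 2) := by rw [hK, pow_mul]
  have hch : CharP F p := charP_of_card_eq_prime_pow hK'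
  have hq : IsPrimePow (p ^ f) := hp.isPrimePow.pow (by omega)
  have hq1 : 1 ≤ p ^ f := by omega
  have hn1 : 1 < Ph 12 (p ^ f) := by
    have h5 : 3 ^ 2 ≤ (p ^ f) ^ 2 := Nat.pow_le_pow_left hq3 2
    have h6 : (p ^ f) ^ 2 * 9 ≤ (p ^ f) ^ 4 := by
      have : (p ^ f) ^ 4 = (p ^ f) ^ 2 * (p ^ f) ^ 2 := by ring
      rw [this]
      exact Nat.mul_le_mul_left _ h5
    simp only [Ph]
    omega
  have hbig : ∀ r, r.Prime → r ∣ Ph 12 (p ^ f) → Big K r (Ph 12 (p ^ f) * k0 (p ^ f)) 12 := fun r hr hrn =>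
    (big0 hq hK (prim_of_ph hq1 hr hrn)).subgroup K
  obtain ⟨τ, hτ⟩ := fth_TE6 (F := F) (p ^ f)
  have hτK : Function.Injective (τ.comp K.subtype) := hτ.comp K.subtype_injective
  have hdK : Nat.card K ∣ OL .TE6 (p ^ f) := (Subgroup.card_subgroup_dvd_card K).trans hdT
  by_cases htp : t = p
  · subst htp
    obtain ⟨r, hr⟩ := exists_prim (q := t ^ f) (e := 12) (by omega) (by norm_num) (by omega)
    have hpiso : PIso t r ↥(Lie.twistedE6 F (t ^ f)) := piso_twE6 hq hK (Or.inl rfl) hr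
    suffices hb : R = ⊥ by
      intro u hu
      rw [hb, Subgroup.mem_bot] at hu
      rw [hu]
      exact Commute.one_left y
    by_contra hne
    have h3 : R.map K.subtype ≠ ⊥ := fun h => hne ((Subgroup.map_eq_bot_iff_of_injective _ K.subtype_injective).1 h)
    refine hpiso.of_le (Q := R.map K.subtype) (H := K) (hRt.map _) h3 ?_ ?_
    · rintro x hx _ ⟨b, hb, rfl⟩
      exact ⟨_, hRn.conj_mem b hb ⟨x, hx⟩, rfl⟩
    · have h5 : orderOf y ∣ Nat.card K := orderOf_dvd_natCard y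
      rw [hy] at h5
      exact (dvd_ph hq1 hr).trans h5
  have htq : ¬ t ∣ p ^ f := fun h => htp ((Nat.prime_dvd_prime_iff_eq ht hp).1 (ht.dvd_of_dvd_pow h))
  have hN := hN_of hdK hq3 ht htq htn h2
  by_cases htk : t ∣ k0 (p ^ f)
  · have h7 := seven_le ht htk
    have htF := Fact.mk ht
    obtain ⟨P, hP⟩ := (hRt.map K.subtype).exists_le_sylow
    have hPc := sylow_te6 hq hK h7 htq P
    refine commute_abelian hτK hp hbig hy ht htp hRt (fun a ha b hb => ?_) htn hN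
    have h3 := hPc.is_comm.comm ⟨_, hP ⟨a, ha, rfl⟩⟩ ⟨_, hP ⟨b, hb, rfl⟩⟩
    have h4 : (a : ↥(Lie.twistedE6 F (p ^ f))) * b = b * a := congrArg Subtype.val h3
    exact Subtype.ext h4
  · have htm : ¬ t ∣ Ph 12 (p ^ f) * k0 (p ^ f) := fun h => by
      rcases ht.dvd_mul.1 h with h | h
      · exact htn h
      · exact htk h
    have hb := eq_bot_of_free hτK hp hn1 hbig hy ht htp hRt htn htm hN
    intro u hu
    rw [hb, Subgroup.mem_bot] at hu
    rw [hu]
    exact Commute.one_left y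

end

end Cfsg.Agent.H682.TE6
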